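import Cfsg.Agent.Mrg.Omega.NO3S.OneQ.Tor_m3
import Cfsg.Agent.FastGrp
import Cfsg.Agent.Prune
set_option linter.all false
prune_inst 0x7ffdfefbbffcfddfffff7fffffffdffe39d6dfffffffff4bfffdfbffffff27ef3fe7fbaf9df4d8ffdff7e2beb0b87853f9ffe23fef6bdc7ffffd5ff45ffbee1ff7ffbfad71debcb41ffe6ffffbf37feeffffffffffffffffffffffffffffffffffffffffffff
open scoped Cfsg.Agent.FastGrp

section


/-!
# NO-3S, critical distance 1: LEMMA PLANE, the end (bb OMEGA #17961, (5.5))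

* `Pla.gam` : `[C_G(W_X), F_Q] ≤ D_Q`;
* `Pla.comm_cent` : `W_R^g` centralises `Q`, for points `R ≠ X` of `Q` and `g ∈ W_Y`, `Y ≠ X` a point of a plane on `X`;
* **`One.no_plane`** : there is no plane (`Pla V Z Q`), if (N) holds.
-/

set_option autoImplicit false
set_option linter.unusedSectionVars false

namespace Cfsg.Agent.Omega.NO3S.OneQ

open Subgroup Cfsg Cfsg.Agent.Omega.NO3S.PT Cfsg.Agent.Omega.NoFF.Basic
open scoped Pointwise

variable {G : Type*} [Group G]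

theorem cj_fq (V Z Q : Subgroup G) (g : G) : PT.cj g (fq V Z Q) = fq V Z (PT.cj g Q) := by
  have key : ∀ (g : G) (Q : Subgroup G), fq V Z Q ≤ PT.cj g⁻¹ (fq V Z (PT.cj g Q)) := by
    intro g Q
    refine sSup_le ?_
    rintro _ ⟨X, hX, hXQ, rfl⟩
    rw [le_cj_iff, inv_inv, ← ws_cj]
    exact ws_le_fq (hX.cj g) (cj_le_cj.2 hXQ)
  apply le_antisymm
  · rw [cj_le_iff]; exact key g Q
  · have h1 := key g⁻¹ (PT.cj g Q)
    rwa [cj_cj, inv_mul_cancel, cj_one, inv_inv] at h1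

/-- two involutions with `(x y)^4 = 1` generate a 2-group -/
theorem isPGroup_pair {x y : G} (hx : x * x = 1) (hy : y * y = 1) (h : (x * y) ^ 4 = 1) :
    IsPGroup 2 (_root_.Subgroup.closure {x, y} : Subgroup G) := by
  have hxi : x⁻¹ = x := inv_eq_of_mul_eq_one_left hx
  have hyi : y⁻¹ = y := inv_eq_of_mul_eq_one_left hy
  have h1 : IsPGroup 2 (zpowers (x * y)) := by
    rintro ⟨w, hw⟩
    obtain ⟨k, rfl⟩ := mem_zpowers_iff.mp hw
    refine ⟨2, Subtype.ext ?_⟩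
    change ((x * y) ^ k) ^ (2 ^ 2) = 1
    have : ((x * y) ^ k) ^ (2 ^ 2) = ((x * y) ^ 4) ^ k := by
      rw [← zpow_natCast, ← zpow_mul, ← zpow_natCast, ← zpow_mul, mul_comm]
      norm_num
    rw [this, h, one_zpow]
  have h2 : IsPGroup 2 (zpowers x) := by
    rintro ⟨w, hw⟩
    obtain ⟨k, rfl⟩ := mem_zpowers_iff.mp hw
    refine ⟨1, Subtype.ext ?_⟩
    change (x ^ k) ^ (2 ^ 1) = 1
    have : (x ^ k) ^ (2 ^ 1) = (x * x) ^ k := by
      rw [← pow_two, ← zpow_natCast, ← zpow_mul, ← zpow_natCast, ← zpow_mul, mul_comm]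
      norm_num
    rw [this, hx, one_zpow]
  have hinv : x * (x * y) * x⁻¹ = (x * y)⁻¹ := by
    rw [mul_inv_rev, hyi, ← mul_assoc x, hx, one_mul]
  have hn : zpowers x ≤ normalizer (zpowers (x * y) : Set G) := by
    rw [zpowers_le, mem_normalizer_iff]
    intro w
    have key : ∀ w ∈ zpowers (x * y), x * w * x⁻¹ ∈ zpowers (x * y) := by
      intro w hw
      obtain ⟨k, rfl⟩ := mem_zpowers_iff.mp hw
      rw [← conj_zpow, hinv]
      exact Subgroup.zpow_mem _ (Subgroup.inv_mem _ (mem_zpowers _)) k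
    refine ⟨key w, fun hw => ?_⟩
    have h3 := key _ hw
    have e : x * (x * w * x⁻¹) * x⁻¹ = w := by
      calc x * (x * w * x⁻¹) * x⁻¹ = (x * x) * w * (x * x)⁻¹ := by group
        _ = w := by rw [hx]; group
    rwa [e] at h3
  have h3 := IsPGroup.to_sup_of_normal_right' h2 h1 hn
  refine h3.to_le ?_
  rw [closure_le]
  rintro w (rfl | hw)
  · exact mem_sup_left (mem_zpowers _)
  · rw [Set.mem_singleton_iff.1 hw]
    have h4 : x * (x * y) ∈ zpowers x ⊔ zpowers (x * y) :=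
      Subgroup.mul_mem _ (mem_sup_left (mem_zpowers _)) (mem_sup_right (mem_zpowers _))
    rwa [← mul_assoc, hx, one_mul] at h4

/-- `J`, `J'` are central in `Γ` modulo `D`, `a b = b a`: `[a J, b J'] ∈ D` -/
theorem comm_mod {Γ D : Subgroup G} (hD : D ≤ Γ) (hn : ∀ γ ∈ Γ, ∀ d ∈ D, γ * d * γ⁻¹ ∈ D) {a b J J' : G}
    (ha : a ∈ Γ) (hb : b ∈ Γ) (hJ : J ∈ Γ) (hJ' : J' ∈ Γ) (hab : a * b = b * a)
    (hc : ∀ γ ∈ Γ, γ * J * γ⁻¹ * J⁻¹ ∈ D) (hc' : ∀ γ ∈ Γ, γ * J' * γ⁻¹ * J'⁻¹ ∈ D) :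
    (a * J) * (b * J') * (a * J)⁻¹ * (b * J')⁻¹ ∈ D := by
  have : (D.subgroupOf Γ).Normal := ⟨fun d hd γ => hn γ γ.2 d hd⟩
  set π := QuotientGroup.mk' (D.subgroupOf Γ) with hπ
  have hcom : ∀ {x y : Γ}, (x : G) * y * (x : G)⁻¹ * (y : G)⁻¹ ∈ D → π x * π y = π y * π x := by
    intro x y hxy
    have h1 : x * y * x⁻¹ * y⁻¹ ∈ D.subgroupOf Γ := hxy
    have h2 := (QuotientGroup.eq_one_iff _).2 h1
    have h3 : π (x * y * x⁻¹ * y⁻¹) = 1 := h2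
    rw [map_mul, map_mul, map_mul, map_inv, map_inv, mul_inv_eq_one, mul_inv_eq_iff_eq_mul] at h3
    exact h3
  let a' : Γ := ⟨a, ha⟩
  let b' : Γ := ⟨b, hb⟩
  let j : Γ := ⟨J, hJ⟩
  let j' : Γ := ⟨J', hJ'⟩
  have e1 : Commute (π a') (π b') := by
    show π a' * π b' = π b' * π a'
    rw [← map_mul, ← map_mul]
    congr 1
    exact Subtype.ext hab
  have e2 : ∀ x : Γ, Commute (π x) (π j) := fun x => hcom (hc x x.2)
  have e3 : ∀ x : Γ, Commute (π x) (π j') := fun x => hcom (hc' x x.2)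
  have e4 : Commute (π a' * π j) (π b' * π j') :=
    (e1.mul_right (e3 a')).mul_left (((e2 b').symm).mul_right (e3 j))
  have e5 : π ((a' * j) * (b' * j') * (a' * j)⁻¹ * (b' * j')⁻¹) = 1 := by
    rw [map_mul, map_mul, map_mul, map_inv, map_inv, map_mul, map_mul, e4.eq]
    group
  have e6 : (a' * j) * (b' * j') * (a' * j)⁻¹ * (b' * j')⁻¹ ∈ D.subgroupOf Γ := (QuotientGroup.eq_one_iff _).1 e5
  exact e6

theorem comm_pow {a g : G} (ha : a⁻¹ = a) (hg : g⁻¹ = g) :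
    a * (g * a * g⁻¹) * a⁻¹ * (g * a * g⁻¹)⁻¹ = (a * g) ^ 4 := by
  have e2 : (g * a * g⁻¹)⁻¹ = g * a * g := by
    rw [mul_inv_rev, mul_inv_rev, inv_inv, ha, hg, mul_assoc]
  rw [e2, ha, hg]
  simp only [pow_succ, pow_zero, one_mul, mul_assoc]

namespace Pla

variable [Finite G] {S : Sylow 2 G} {B P V Z : Subgroup G} (h : One S B P V Z)
include h

/-- `[C_G(W_X), F_Q] ≤ D_Q` -/
theorem gam {Q : Subgroup G} (hp : Pla V Z Q) (hN : NN V Z) {X : Subgroup G} (hX : IsCj Z X) (hXQ : X ≤ Q) {b : G}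
    (hb : b ∈ fq V Z Q) : ∀ γ ∈ centralizer ((ws V X : Subgroup G) : Set G), γ * b * γ⁻¹ * b⁻¹ ∈ dq V Z Q := by
  let A : Subgroup G :=
    { carrier := {b | b ∈ fq V Z Q ∧ ∀ γ ∈ centralizer ((ws V X : Subgroup G) : Set G), γ * b * γ⁻¹ * b⁻¹ ∈ dq V Z Q}
      one_mem' := ⟨one_mem _, fun γ _ => by
        have : γ * 1 * γ⁻¹ * (1 : G)⁻¹ = 1 := by group
        rw [this]; exact one_mem _⟩
      mul_mem' := by
        rintro a b ⟨ha, ha'⟩ ⟨hb, hb'⟩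
        refine ⟨mul_mem ha hb, fun γ hγ => ?_⟩
        have e1 : γ * (a * b) * γ⁻¹ * (a * b)⁻¹ = (γ * a * γ⁻¹ * a⁻¹) * (a * (γ * b * γ⁻¹ * b⁻¹) * a⁻¹) := by group
        have h1 := mem_centralizer_iff.1 (dq_le_cent (hb' γ hγ)) a ha
        rw [e1, h1, mul_inv_cancel_right]
        exact mul_mem (ha' γ hγ) (hb' γ hγ)
      inv_mem' := by
        rintro a ⟨ha, ha'⟩
        refine ⟨inv_mem ha, fun γ hγ => ?_⟩
        have e1 : γ * a⁻¹ * γ⁻¹ * a⁻¹⁻¹ = a⁻¹ * ((γ * a * γ⁻¹ * a⁻¹)⁻¹ * a) := by group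
        have h1 := mem_centralizer_iff.1 (dq_le_cent (inv_mem (ha' γ hγ))) a ha
        rw [e1, ← h1, inv_mul_cancel_left]
        exact inv_mem (ha' γ hγ) }
  have hA : fq V Z Q ≤ A := by
    refine sSup_le ?_
    rintro _ ⟨Y, hY, hYQ, rfl⟩ b hb
    refine ⟨ws_le_fq hY hYQ hb, fun γ hγ => ?_⟩
    by_cases hYX : Y = X
    · subst hYX
      have h1 : γ * b = b * γ := (mem_centralizer_iff.1 hγ b hb).symm
      rw [h1, mul_inv_cancel_right, mul_inv_cancel]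
      exact one_mem _
    obtain ⟨L, hL, hLQ, hXL, hYL⟩ := hp.col X Y hX hY hXQ hYQ (Ne.symm hYX)
    refine hp.dd_le_dq h hN hY hL hLQ hYL ?_
    rw [h.dd_line hL hY hYL hX hXL (Ne.symm hYX)]
    have h1 : γ ∈ normalizer ((ws V Y : Subgroup G) : Set G) :=
      normalizer_le_ws V Y (centralizer_le_normalizer _ (centralizer_le (hYL.trans (h.line_le_ws hL hXL)) hγ))
    have h2 : b ∈ normalizer ((ws V X : Subgroup G) : Set G) :=
      normalizer_le_ws V X (centralizer_le_normalizer _ (centralizer_le hXL (h.ws_le_line hL hY hYL hb)))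
    refine ⟨(ws V Y).mul_mem ((mem_normalizer_iff.1 h1 b).1 hb) ((ws V Y).inv_mem hb), ?_⟩
    have h3 : b * γ⁻¹ * b⁻¹ ∈ centralizer ((ws V X : Subgroup G) : Set G) := by
      have h4 := conj_mem_cj (g := b) (inv_mem hγ)
      rwa [cj_centralizer, cj_eq_iff.2 h2] at h4
    have e1 : γ * b * γ⁻¹ * b⁻¹ = γ * (b * γ⁻¹ * b⁻¹) := by group
    rw [e1]
    exact mul_mem hγ h3
  exact (hA hb).2

/-- points of a plane are collinear: `W_Y ≤ C_G(X)` -/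
theorem ws_le_cent {Q : Subgroup G} (hp : Pla V Z Q) {X Y : Subgroup G} (hX : IsCj Z X) (hY : IsCj Z Y)
    (hXQ : X ≤ Q) (hYQ : Y ≤ Q) : ws V Y ≤ centralizer (X : Set G) := by
  intro b hb
  rw [mem_centralizer_iff]
  exact fun x hx => hp.Q_comm h hY hYQ (hXQ hx) hb

/-- **(5.5)** -/
theorem comm_cent {Q Q₁ : Subgroup G} (hp : Pla V Z Q) (hp₁ : Pla V Z Q₁) (hN : NN V Z) {X Y : Subgroup G}
    (hX : IsCj Z X) (hXQ : X ≤ Q) (hXQ₁ : X ≤ Q₁) (hY : IsCj Z Y) (hYQ : Y ≤ Q₁) {g : G}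
    (hg : g ∈ ws V Y) {R : Subgroup G} (hR : IsCj Z R) (hRQ : R ≤ Q) (hRX : R ≠ X) {b : G}
    (hb : b ∈ ws V (PT.cj g R)) : b ∈ centralizer (Q : Set G) := by
  have _ := hRX
  have hgX : g ∈ centralizer (X : Set G) := hp₁.ws_le_cent h hX hY hXQ₁ hYQ hg
  have hcX : PT.cj g X = X := cj_eq_iff.2 (centralizer_le_normalizer _ hgX)
  have hp' := hp.cj g
  have hXQ' : X ≤ PT.cj g Q := by rw [← hcX]; exact cj_le_cj.2 hXQ
  have hR' : IsCj Z (PT.cj g R) := hR.cj g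
  have hRQ' : PT.cj g R ≤ PT.cj g Q := cj_le_cj.2 hRQ
  have hbX : b ∈ centralizer (X : Set G) := hp'.ws_le_cent h hX hR' hXQ' hRQ' hb
  have hgW : g ∈ normalizer ((ws V X : Subgroup G) : Set G) :=
    normalizer_le_ws V X (centralizer_le_normalizer _ hgX)
  -- every point `T ≠ X` of `Q` is centralised by `b`
  have key : ∀ T, IsCj Z T → T ≤ Q → T ≠ X → ∀ u ∈ T, b * u = u * b := by
    intro T hT hTQ hTX u hu
    obtain ⟨j, hj, j', hj', hjc, hjc', hcT, hc1⟩ := hp.exists_comm h hN hX hT hXQ hTQ hTX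
    obtain ⟨L, hL, hLQ, hXL, hTL⟩ := hp.col X T hX hT hXQ hTQ hTX.symm
    have hΓ : dq V Z (PT.cj g Q) ≤ centralizer ((ws V X : Subgroup G) : Set G) :=
      dq_le_cent.trans (centralizer_le (ws_le_fq hX hXQ'))
    have hcon : ∀ {j : G}, j ∈ fq V Z Q → g * j * g⁻¹ ∈ fq V Z (PT.cj g Q) := by
      intro j hj
      rw [← cj_fq]
      exact conj_mem_cj hj
    have hcen : ∀ {j : G}, j ∈ centralizer ((ws V X : Subgroup G) : Set G) →
        g * j * g⁻¹ ∈ centralizer ((ws V X : Subgroup G) : Set G) := by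
      intro j hj
      have h4 := conj_mem_cj (g := g) hj
      rwa [cj_centralizer, cj_eq_iff.2 hgW] at h4
    -- `d = [j, g] ∈ D_{Q₁}`
    have hd := fun {j : G} (hj : j ∈ centralizer ((ws V X : Subgroup G) : Set G)) =>
      hp₁.gam h hN hX hXQ₁ (ws_le_fq hY hYQ hg) j hj
    have hdc : ∀ {j : G}, j ∈ centralizer ((ws V X : Subgroup G) : Set G) →
        j * g * j⁻¹ * g⁻¹ ∈ centralizer ((ws V X : Subgroup G) : Set G) := fun {j} hj =>
      centralizer_le (ws_le_fq hX hXQ₁) (dq_le_cent (hd hj))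
    have hdd : (j * g * j⁻¹ * g⁻¹) * (j' * g * j'⁻¹ * g⁻¹) = (j' * g * j'⁻¹ * g⁻¹) * (j * g * j⁻¹ * g⁻¹) :=
      (mem_centralizer_iff.1 (dq_le_cent (hd hjc)) _ (dq_le_fq (hd hjc'))).symm
    have e1 : ∀ j : G, j = (j * g * j⁻¹ * g⁻¹) * (g * j * g⁻¹) := fun j => by group
    have h1 := comm_mod (Γ := centralizer ((ws V X : Subgroup G) : Set G)) (D := dq V Z (PT.cj g Q)) hΓ
      (fun γ hγ d hd => by
        have h2 := hp'.gam h hN hX hXQ' (dq_le_fq hd) γ hγ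
        have h3 := mul_mem h2 hd
        rwa [inv_mul_cancel_right] at h3)
      (hdc hjc) (hdc hjc') (hcen hjc) (hcen hjc') hdd
      (fun γ hγ => hp'.gam h hN hX hXQ' (hcon hj) γ hγ) (fun γ hγ => hp'.gam h hN hX hXQ' (hcon hj') γ hγ)
    rw [← e1 j, ← e1 j'] at h1
    have h2 : b * (j * j' * j⁻¹ * j'⁻¹) = (j * j' * j⁻¹ * j'⁻¹) * b :=
      mem_centralizer_iff.1 (dq_le_cent h1) b (ws_le_fq hR' hRQ' hb)
    have h3 := h.lin_fix hL hX hXL hT hTL hTX.symm hbX hcT hc1 h2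
    exact (mem_centralizer_iff.1 h3 u (hTL hu)).symm
  rw [mem_centralizer_iff]
  intro u hu
  by_cases hu1 : u = 1
  · rw [hu1, one_mul, mul_one]
  obtain ⟨T, hT, hTQ, huT⟩ := hp.cov u hu hu1
  by_cases hTX : T = X
  · exact mem_centralizer_iff.1 hbX u (hTX ▸ huT)
  · exact (key T hT hTQ hTX u huT).symm

/-- `[a, a^g] ∈ C_G(W_X)` -/
theorem comm_conj {Q Q₁ : Subgroup G} (hp : Pla V Z Q) (hp₁ : Pla V Z Q₁) (hN : NN V Z) {X Y : Subgroup G}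
    (hX : IsCj Z X) (hXQ : X ≤ Q) (hXQ₁ : X ≤ Q₁) (hY : IsCj Z Y) (hYQ : Y ≤ Q₁) {g : G}
    (hg : g ∈ ws V Y) {R : Subgroup G} (hR : IsCj Z R) (hRQ : R ≤ Q) (hRX : R ≠ X) {a : G} (ha : a ∈ ws V R) :
    a * (g * a * g⁻¹) * a⁻¹ * (g * a * g⁻¹)⁻¹ ∈ centralizer ((ws V X : Subgroup G) : Set G) := by
  have hgX : g ∈ centralizer (X : Set G) := hp₁.ws_le_cent h hX hY hXQ₁ hYQ hg
  have hcX : PT.cj g X = X := cj_eq_iff.2 (centralizer_le_normalizer _ hgX)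
  have hp' := hp.cj g
  have hXQ' : X ≤ PT.cj g Q := by rw [← hcX]; exact cj_le_cj.2 hXQ
  have hgi : g⁻¹ = g := h.W_inv hY hg
  set b := g * a * g⁻¹ with hb
  have hbW : b ∈ ws V (PT.cj g R) := by rw [ws_cj]; exact conj_mem_cj ha
  have hbQ : b ∈ centralizer (Q : Set G) := hp.comm_cent h hp₁ hN hX hXQ hXQ₁ hY hYQ hg hR hRQ hRX hbW
  have haQ : a ∈ centralizer ((PT.cj g Q : Subgroup G) : Set G) := by
    rw [← cj_centralizer, mem_cj]
    have e1 : g⁻¹ * a * g = b := by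
      rw [hb, hgi]
    rw [e1]; exact hbQ
  have haX : a ∈ centralizer (X : Set G) := hp.ws_le_cent h hX hR hXQ hRQ ha
  have hbX : b ∈ centralizer (X : Set G) := hp'.ws_le_cent h hX (hR.cj g) hXQ' (cj_le_cj.2 hRQ) hbW
  have hnW : ∀ {c : G}, c ∈ centralizer (X : Set G) → c ∈ normalizer ((ws V X : Subgroup G) : Set G) := fun {c} hc =>
    normalizer_le_ws V X (centralizer_le_normalizer _ hc)
  have key : ∀ w ∈ ws V X, (a * b) * w * (a * b)⁻¹ = (b * a) * w * (b * a)⁻¹ := by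
    intro w hw
    have h1 : a * w * a⁻¹ * w⁻¹ ∈ Q := hp.comm_mem h hR hRQ hX hXQ ha hw
    have h2 : b * w * b⁻¹ * w⁻¹ ∈ PT.cj g Q := hp'.comm_mem h (hR.cj g) (cj_le_cj.2 hRQ) hX hXQ' hbW hw
    have h3 := mem_centralizer_iff.1 hbQ _ h1
    have h4 := mem_centralizer_iff.1 haQ _ h2
    have h5 : (a * w * a⁻¹ * w⁻¹) * (b * w * b⁻¹ * w⁻¹) = (b * w * b⁻¹ * w⁻¹) * (a * w * a⁻¹ * w⁻¹) :=
      h.comm_W hX (hp.leW X hX hXQ h1) (hp'.leW X hX hXQ' h2)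
    calc (a * b) * w * (a * b)⁻¹ = (a * (b * w * b⁻¹ * w⁻¹)) * (w * a⁻¹) := by group
      _ = ((b * w * b⁻¹ * w⁻¹) * a) * (w * a⁻¹) := by rw [h4]
      _ = ((b * w * b⁻¹ * w⁻¹) * (a * w * a⁻¹ * w⁻¹)) * w := by group
      _ = ((a * w * a⁻¹ * w⁻¹) * (b * w * b⁻¹ * w⁻¹)) * w := by rw [h5]
      _ = ((a * w * a⁻¹ * w⁻¹) * b) * (w * b⁻¹) := by group
      _ = (b * (a * w * a⁻¹ * w⁻¹)) * (w * b⁻¹) := by rw [h3]
      _ = _ := by group
  rw [mem_centralizer_iff]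
  intro w hw
  have hba : b * a ∈ normalizer ((ws V X : Subgroup G) : Set G) := mul_mem (hnW hbX) (hnW haX)
  have hw' : (b * a)⁻¹ * w * (b * a) ∈ ws V X := by
    have h1 := (mem_normalizer_iff.1 (inv_mem hba) w).1 hw
    rwa [inv_inv] at h1
  have h1 := key _ hw'
  have e1 : (b * a) * ((b * a)⁻¹ * w * (b * a)) * (b * a)⁻¹ = w := by group
  rw [e1] at h1
  have e2 : (a * b) * ((b * a)⁻¹ * w * (b * a)) * (a * b)⁻¹ =
    (a * b * a⁻¹ * b⁻¹) * w * (a * b * a⁻¹ * b⁻¹)⁻¹ := by group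
  rw [e2, mul_inv_eq_iff_eq_mul] at h1
  exact h1.symm

end Pla

namespace One

variable [Finite G] {S : Sylow 2 G} {B P V Z : Subgroup G} (h : One S B P V Z)
include h

/-- **LEMMA PLANE** -/
theorem no_plane (hN : NN V Z) {Q : Subgroup G} (hp : Pla V Z Q) : False := by
  obtain ⟨L, hL, hLQ⟩ := hp.ln
  obtain ⟨X, hX, hXL⟩ : ∃ X, IsCj Z X ∧ X ≤ L := by
    obtain ⟨g, rfl⟩ := hL
    exact ⟨PT.cj g Z, ⟨g, rfl⟩, cj_le_cj.2 h.pl.ZV⟩
  obtain ⟨R, hR, hRL, hRX⟩ := Pla.exists_pt h hL hX hXL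
  have hXQ := hXL.trans hLQ
  have hRQ := hRL.trans hLQ
  have hWn : centralizer (X : Set G) ≤ normalizer ((ws V X : Subgroup G) : Set G) := fun c hc =>
    normalizer_le_ws V X (centralizer_le_normalizer _ hc)
  set Γ : Subgroup (centralizer (X : Set G)) :=
    (centralizer ((ws V X : Subgroup G) : Set G)).subgroupOf (centralizer (X : Set G)) with hΓ
  have : Γ.Normal := by
    refine ⟨fun γ hγ c => ?_⟩
    rw [hΓ, mem_subgroupOf] at hγ ⊢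
    have h4 := conj_mem_cj (g := (c : G)) hγ
    rwa [cj_centralizer, cj_eq_iff.2 (hWn c.2)] at h4
  set π := QuotientGroup.mk' Γ with hπ
  have key : ws V R ≤ kx V X := by
    intro a ha
    have haX : a ∈ centralizer (X : Set G) := hp.ws_le_cent h hX hR hXQ hRQ ha
    let a' : centralizer (X : Set G) := ⟨a, haX⟩
    have ha2 : a' * a' = 1 := Subtype.ext (h.W_sq hR ha)
    have h1 : π a' ∈ pCore 2 (centralizer (X : Set G) ⧸ Γ) := by
      refine Cfsg.Agent.Involutions.BaerSuzuki.mem_pCore_of_conj_pairs (p := 2) _ fun c => ?_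
      obtain ⟨c, rfl⟩ := QuotientGroup.mk'_surjective Γ c
      have hx : π a' * π a' = 1 := by rw [← map_mul, ha2, map_one]
      have hai : a'⁻¹ = a' := inv_eq_of_mul_eq_one_left ha2
      set g' : centralizer (X : Set G) := c * a' * c⁻¹ with hg'
      have hgg : g' * g' = 1 := by
        rw [hg']
        calc c * a' * c⁻¹ * (c * a' * c⁻¹) = c * (a' * a') * c⁻¹ := by group
          _ = 1 := by rw [ha2]; group
      have hgi : g'⁻¹ = g' := inv_eq_of_mul_eq_one_left hgg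
      have hy : π g' * π g' = 1 := by rw [← map_mul, hgg, map_one]
      have hcc : (QuotientGroup.mk' Γ) c * π a' * ((QuotientGroup.mk' Γ) c)⁻¹ = π g' := by
        rw [hg', map_mul, map_mul, map_inv]
      rw [hcc]
      refine isPGroup_pair hx hy ?_
      -- the plane `Q^c`
      have hcX : PT.cj (c : G) X = X := cj_eq_iff.2 (centralizer_le_normalizer _ c.2)
      have h2 := hp.comm_conj h (hp.cj (c : G)) hN hX hXQ (hcX.symm.le.trans (cj_le_cj.2 hXQ))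
        (hR.cj (c : G)) (cj_le_cj.2 hRQ) (g := (g' : G)) (by rw [ws_cj]; exact conj_mem_cj ha) hR hRQ hRX ha
      have h3 : a' * (g' * a' * g'⁻¹) * a'⁻¹ * (g' * a' * g'⁻¹)⁻¹ ∈ Γ := h2
      have h4 : π (a' * (g' * a' * g'⁻¹) * a'⁻¹ * (g' * a' * g'⁻¹)⁻¹) = 1 := (QuotientGroup.eq_one_iff _).2 h3
      rw [comm_pow hai hgi, map_pow, map_mul] at h4
      exact h4
    refine mem_kx.2 ⟨fun x hx => (mem_centralizer_iff.1 haX x hx).symm, ?_⟩
    -- the subgroup of `W_X` of elements `w` with `[a, w] ∈ X`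
    let A : Subgroup G :=
      { carrier := {w | w ∈ ws V X ∧ a * w * a⁻¹ * w⁻¹ ∈ X}
        one_mem' := ⟨one_mem _, by
          have : a * 1 * a⁻¹ * (1 : G)⁻¹ = 1 := by group
          rw [this]; exact one_mem _⟩
        mul_mem' := by
          rintro u w ⟨hu, hu'⟩ ⟨hw, hw'⟩
          refine ⟨mul_mem hu hw, ?_⟩
          have e1 : a * (u * w) * a⁻¹ * (u * w)⁻¹ = (a * u * a⁻¹ * u⁻¹) * (u * (a * w * a⁻¹ * w⁻¹) * u⁻¹) := by group
          have h1 := hp.Q_comm h hX hXQ (hXQ hw') hu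
          rw [e1, ← h1, mul_inv_cancel_right]
          exact mul_mem hu' hw'
        inv_mem' := by
          rintro u ⟨hu, hu'⟩
          refine ⟨inv_mem hu, ?_⟩
          have e1 : a * u⁻¹ * a⁻¹ * u⁻¹⁻¹ = u⁻¹ * ((a * u * a⁻¹ * u⁻¹)⁻¹ * u) := by group
          have h1 := hp.Q_comm h hX hXQ (hXQ (inv_mem hu')) hu
          rw [e1, h1, inv_mul_cancel_left]
          exact inv_mem hu' }
    have hA : ws V X ≤ A := by
      refine ws_le fun M hM hXM v hv => ⟨h.line_le_ws hM hXM hv, ?_⟩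
      obtain ⟨S', C', Q', h'⟩ := h.flag hM hX hXM
      exact h'.act_of_pCore Γ (fun γ hγ => centralizer_le (h.line_le_ws hM hXM) hγ) h1 hv
    exact fun w hw => (hA hw).2
  -- `E_R(L) = W_R`
  obtain ⟨S', C', Q', h'⟩ := h.flag hL hR hRL
  apply h'.ee_ne h'.self
  rw [ee_of hR, h.ee_line hL hR hRL hX hXL hRX.symm, ws_line hL]
  exact inf_eq_left.2 key

end One

end Cfsg.Agent.Omega.NO3S.OneQ

end

section


/-!
# NO-3S, critical distance 1: planes (bb OMEGA #17961, (5.2))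

* `Plg.trans` : `N_G(Q)` is transitive on the points of a plane `Q`;
* **`One.plg_of`** : a line `L ≠ V` on `Z` with `L ≤ I` gives a plane `V L`;
* **`One.pla_of`** : if `W_T K_Z ≤ W_Y K_Z` for points `Y ∈ V`, `T ∈ L`, and `W_Z = E_Z(V) E_Z(L)`, then `Pla V Z (V L)`;
* **`One.no_fold`** : this is impossible if (N) holds.
-/

set_option autoImplicit false
set_option linter.unusedSectionVars false

namespace Cfsg.Agent.Omega.NO3S.OneQ

open Subgroup Cfsg Cfsg.Agent.Omega.NO3S.PT Cfsg.Agent.Omega.NoFF.Basic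
open Cfsg.Agent.Omega.NoFF.ThmJ (card_sup_mul)
open scoped Pointwise

variable {G : Type*} [Group G]

/-- `W_Y K_X` -/
def wk (V X Y : Subgroup G) : Subgroup G := ws V Y ⊔ kx V X

theorem cj_sup' (g : G) (A B : Subgroup G) : PT.cj g (A ⊔ B) = PT.cj g A ⊔ PT.cj g B := by
  apply le_antisymm
  · rw [cj_le_iff]
    refine sup_le ?_ ?_
    · rw [le_cj_iff, inv_inv]; exact le_sup_left
    · rw [le_cj_iff, inv_inv]; exact le_sup_right
  · exact sup_le (cj_le_cj.2 le_sup_left) (cj_le_cj.2 le_sup_right)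

theorem cj_wk (V X Y : Subgroup G) (g : G) : PT.cj g (wk V X Y) = wk V (PT.cj g X) (PT.cj g Y) := by
  unfold wk
  rw [cj_sup', ws_cj, kx_cj]

namespace One

variable [Finite G] {S : Sylow 2 G} {B P V Z : Subgroup G} (h : One S B P V Z)
include h

/-- a line is covered by its points -/
theorem line_pt {L : Subgroup G} (hL : IsCj V L) {u : G} (hu : u ∈ L) (hu1 : u ≠ 1) :
    ∃ X, IsCj Z X ∧ X ≤ L ∧ u ∈ X := by
  obtain ⟨g, rfl⟩ := hL
  have hT : IsCj Z (PT.cj g Z) := ⟨g, rfl⟩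
  obtain ⟨S', C', Q', h'⟩ := h.flag ⟨g, rfl⟩ hT (cj_le_cj.2 h.pl.ZV)
  obtain ⟨A, hA, hAL, huA⟩ := h'.pl.exists_point hu hu1
  exact ⟨A, ((pnt_iff hT).1 ⟨hA, hAL⟩).cj, hAL, huA⟩

/-- `W_Y` normalises `K_X` -/
theorem wk_norm {L X Y : Subgroup G} (hL : IsCj V L) (hXL : X ≤ L) (hY : IsCj Z Y) (hYL : Y ≤ L) :
    ws V Y ≤ normalizer ((kx V X : Subgroup G) : Set G) := fun a ha =>
  normalizer_le_kx V X (centralizer_le_normalizer _ (centralizer_le hXL (h.ws_le_line hL hY hYL ha)))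

theorem wk_le {L X Y T : Subgroup G} (hL : IsCj V L) (hX : IsCj Z X) (hXL : X ≤ L) (hY : IsCj Z Y) (hYL : Y ≤ L)
    (hYX : Y ≠ X) (hT : IsCj Z T) (hTL : T ≤ L) (hTX : T ≠ X) : wk V X Y ≤ wk V X T := by
  obtain ⟨k, hk, rfl⟩ := h.move_line hL hX hXL hT hTL hY hYL hTX hYX
  refine sup_le ?_ le_sup_right
  rw [ws_cj]
  intro a ha
  rw [mem_cj] at ha
  have h1 : k ∈ wk V X T := mem_sup_right hk
  have h2 : k⁻¹ * a * k ∈ wk V X T := mem_sup_left ha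
  have h3 := mul_mem (mul_mem h1 h2) (inv_mem h1)
  have e : k * (k⁻¹ * a * k) * k⁻¹ = a := by group
  rwa [e] at h3

theorem wk_eq {L X Y T : Subgroup G} (hL : IsCj V L) (hX : IsCj Z X) (hXL : X ≤ L) (hY : IsCj Z Y) (hYL : Y ≤ L)
    (hYX : Y ≠ X) (hT : IsCj Z T) (hTL : T ≤ L) (hTX : T ≠ X) : wk V X Y = wk V X T :=
  le_antisymm (h.wk_le hL hX hXL hY hYL hYX hT hTL hTX) (h.wk_le hL hX hXL hT hTL hTX hY hYL hYX)

/-- `|E_X(L)|` is the same for all flags -/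
theorem card_ee {L M X Y : Subgroup G} (hL : IsCj V L) (hX : IsCj Z X) (hXL : X ≤ L) (hM : IsCj V M) (hY : IsCj Z Y)
    (hYM : Y ≤ M) : Nat.card (ee L Z X) = Nat.card (ee M Z Y) := by
  obtain ⟨g, rfl, rfl⟩ := PB.Geom.exists_conj_flag h.pl hX hL hXL
  obtain ⟨k, rfl, rfl⟩ := PB.Geom.exists_conj_flag h.pl hY hM hYM
  rw [← cj_conj_ee, ← cj_conj_ee, card_cj, card_cj]

theorem card_ws {X Y : Subgroup G} (hX : IsCj Z X) (hY : IsCj Z Y) : Nat.card (ws V X) = Nat.card (ws V Y) := by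
  obtain ⟨g, rfl⟩ := hX
  obtain ⟨k, rfl⟩ := hY
  rw [ws_cj, ws_cj, card_cj, card_cj]

/-- `|W_Y K_X|` is the same for all `Y` -/
theorem card_wk {L M X Y T : Subgroup G} (hL : IsCj V L) (hM : IsCj V M) (hX : IsCj Z X) (hXL : X ≤ L) (hXM : X ≤ M)
    (hY : IsCj Z Y) (hYL : Y ≤ L) (hYX : Y ≠ X) (hT : IsCj Z T) (hTM : T ≤ M) (hTX : T ≠ X) :
    Nat.card (wk V X Y) = Nat.card (wk V X T) := by
  have h1 := card_sup_mul (h.wk_norm hL hXL hY hYL)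
  have h2 := card_sup_mul (h.wk_norm hM hXM hT hTM)
  rw [inf_comm, ← h.ee_line hL hY hYL hX hXL hYX.symm, sup_comm] at h1
  rw [inf_comm, ← h.ee_line hM hT hTM hX hXM hTX.symm, sup_comm] at h2
  rw [h.card_ee hL hY hYL hM hT hTM, h.card_ws hY hT, ← h2] at h1
  exact Nat.eq_of_mul_eq_mul_right Nat.card_pos h1

end One

namespace Plg

variable [Finite G] {S : Sylow 2 G} {B P V Z : Subgroup G} (h : One S B P V Z)
include h

theorem kx_norm {Q : Subgroup G} (hp : Plg V Z Q) {X : Subgroup G} (hX : IsCj Z X) (hXQ : X ≤ Q) :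
    kx V X ≤ normalizer (Q : Set G) := kx_normalizes hXQ (hp.leW X hX hXQ)

theorem XV_norm {Q : Subgroup G} (hp : Plg V Z Q) {L X : Subgroup G} (hL : IsCj V L) (hLQ : L ≤ Q)
    (hX : IsCj Z X) : XV L X ≤ normalizer (Q : Set G) := by
  refine sSup_le ?_
  rintro _ ⟨Y, hY, hYL, rfl⟩
  rw [kx_line hL]
  exact hp.kx_norm h ((pnt_iff hX).1 ⟨hY, hYL⟩).cj (hYL.trans hLQ)

/-- `N_G(Q)` is transitive on the points of `Q` -/
theorem trans {Q : Subgroup G} (hp : Plg V Z Q) {X Y : Subgroup G} (hX : IsCj Z X) (hY : IsCj Z Y) (hXQ : X ≤ Q)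
    (hYQ : Y ≤ Q) : ∃ g ∈ normalizer (Q : Set G), PT.cj g X = Y := by
  by_cases hne : X = Y
  · exact ⟨1, one_mem _, by rw [cj_one, hne]⟩
  obtain ⟨L, hL, hLQ, hXL, hYL⟩ := hp.col X Y hX hY hXQ hYQ hne
  obtain ⟨S', C', Q', h'⟩ := h.flag hL hX hXL
  obtain ⟨k, hk, -, hkX, -⟩ := h'.pl.swap h'.hf h'.pl.isCj_self hXL (h.pnt_line hX hY hYL).cj hYL
  exact ⟨k, hp.XV_norm h hL hLQ hX hk, hkX⟩

end Plg

namespace One

variable [Finite G] {S : Sylow 2 G} {B P V Z : Subgroup G} (h : One S B P V Z)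
include h

section

variable {L : Subgroup G} (hL : IsCj V L) (hZL : Z ≤ L) (hLV : L ≠ V) (hLI : L ≤ IV V Z)
include hL hZL hLV hLI

theorem inf_line {u : G} (hu : u ∈ V) (huL : u ∈ L) : u ∈ Z := by
  by_cases hu1 : u = 1
  · rw [hu1]; exact one_mem _
  obtain ⟨X, hX, hXV, huX⟩ := h.line_pt ⟨1, (cj_one V).symm⟩ hu hu1
  by_contra huZ
  have hXZ : X ≠ Z := fun e => huZ (e ▸ huX)
  have hXL : X ≤ L := Pla.pt_le h hL hX huX hu1 huL
  exact hLV (h.line_eq hL ⟨1, (cj_one V).symm⟩ hX h.pl.isCj_self hXL hZL hXV h.pl.ZV hXZ)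

theorem Q_le_I : V ⊔ L ≤ IV V Z := sup_le h.pl.V_le_IV hLI

theorem leW_V {T : Subgroup G} (hT : Pnt V Z T) : V ⊔ L ≤ ws V T :=
  (h.Q_le_I hL hZL hLV hLI).trans (h.I_le_W hT)

theorem norm_of_V {T : Subgroup G} (hT : Pnt V Z T) : kx V T ≤ normalizer ((V ⊔ L : Subgroup G) : Set G) :=
  kx_normalizes (hT.le.trans le_sup_left) (h.leW_V hL hZL hLV hLI hT)

theorem leW_L {T : Subgroup G} (hT : IsCj Z T) (hTL : T ≤ L) (hTZ : T ≠ Z) : V ⊔ L ≤ ws V T := by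
  refine sup_le ?_ (h.line_le_ws hL hTL)
  obtain ⟨u, hu, hu1⟩ := h.pl.pt_ne_bot hT
  have huV : u ∉ V := fun e => hTZ (h.pl.pts_eq hT h.pl.isCj_self hu (h.inf_line hL hZL hLV hLI e (hTL hu)) hu1)
  intro v hv
  by_cases hv1 : v = 1
  · rw [hv1]; exact one_mem _
  obtain ⟨Y, hY, hYV, hvY⟩ := h.pl.exists_point hv hv1
  obtain ⟨x, hx, -, hxu, hxZ, -⟩ := h.pl.F2_swap h.hf h.hO (hLI (hTL hu)) huV h.pl.isCj_self h.pl.ZV hY hYV
  have hxT : PT.cj x T = T := by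
    refine h.pl.pts_eq (hT.cj x) hT (z := u) ?_ hu hu1
    have h1 := conj_mem_cj (g := x) hu
    rwa [hxu, mul_inv_cancel_right] at h1
  have h1 : Y ≤ PT.cj x L := by rw [← hxZ]; exact cj_le_cj.2 hZL
  have h2 : T ≤ PT.cj x L := by
    have := (cj_le_cj (g := x)).2 hTL
    rwa [hxT] at this
  exact h.line_le_ws (hL.cj x) h2 (h1 hvY)

/-- every element of `V L - V` is on a line `L^k`, `k ∈ K_Y ∩ C_G(V)` -/
theorem cover {Y : Subgroup G} (hY : Pnt V Z Y) (hYZ : Y ≠ Z) {u : G} (hu : u ∈ V ⊔ L) (huV : u ∉ V) :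
    ∃ k ∈ kx V Y, k ∈ centralizer (V : Set G) ∧ u ∈ PT.cj k L := by
  have hn : V ≤ normalizer (L : Set G) := by
    refine le_trans ?_ (centralizer_le_normalizer _)
    intro v hv
    rw [mem_centralizer_iff]
    exact fun l hl => h.pl.IV_comm (hLI hl) (h.pl.V_le_IV hv)
  obtain ⟨v, hv, l, hl, rfl⟩ := mem_sup_norm hn hu
  have hlV : l ∉ V := fun e => huV (mul_mem hv e)
  obtain ⟨z, hz, y, hy, rfl⟩ := h.pl.exists_mul h.pl.isCj_self h.pl.ZV hY.cj hY.le hYZ.symm hv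
  obtain ⟨k, hk, hkV, hkl⟩ := h.pl.F2' h.hf h.hO (hLI hl) hlV hY.cj hY.le hy
  refine ⟨k, hk, hkV, ?_⟩
  have e1 : z * y * l = k * (z * l) * k⁻¹ := by
    have h1 : k * z * k⁻¹ = z := by
      rw [← mem_centralizer_iff.1 hkV z (h.pl.ZV hz), mul_inv_cancel_right]
    calc z * y * l = z * (y * l) := by group
      _ = (k * z * k⁻¹) * (k * l * k⁻¹) := by rw [h1, ← hkl]; group
      _ = _ := by group
  rw [e1]
  exact conj_mem_cj (mul_mem (hZL hz) hl)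

theorem card_Q : Nat.card (V ⊔ L : Subgroup G) * Nat.card Z ≤ Nat.card V * Nat.card V := by
  have h1 := card_sup_mul (K := V) (H := L) (by
    refine le_trans ?_ (centralizer_le_normalizer _)
    intro l hl
    rw [mem_centralizer_iff]
    exact fun v hv => h.pl.IV_comm (h.pl.V_le_IV hv) (hLI hl))
  have h2 : Nat.card L = Nat.card V := by
    obtain ⟨g, rfl⟩ := hL
    exact card_cj g V
  rw [h2] at h1
  rw [← h1]
  exact Nat.mul_le_mul_left _ (Subgroup.card_le_of_le (le_inf h.pl.ZV hZL))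

/-- **planes** -/
theorem plg_of : Plg V Z (V ⊔ L) := by
  have hVV : IsCj V V := ⟨1, (cj_one V).symm⟩
  obtain ⟨Y, hY, hYZ⟩ := h.exists_ne h.self
  have hYZ' : Y ≠ Z := hYZ
  have hQn := h.norm_of_V hL hZL hLV hLI hY
  have hcjQ : ∀ {k : G}, k ∈ kx V Y → PT.cj k (V ⊔ L) = V ⊔ L := fun hk => cj_eq_iff.2 (hQn hk)
  -- points
  have hpt : ∀ T, IsCj Z T → T ≤ V ⊔ L → T ≤ V ∨ ∃ k ∈ kx V Y, k ∈ centralizer (V : Set G) ∧ T ≤ PT.cj k L ∧
      ¬ T ≤ V := by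
    intro T hT hTQ
    by_cases hTV : T ≤ V
    · exact Or.inl hTV
    obtain ⟨u, hu, hu1⟩ := h.pl.pt_ne_bot hT
    have huV : u ∉ V := fun e => hTV (Pla.pt_le h hVV hT hu hu1 e)
    obtain ⟨k, hk, hkV, huk⟩ := h.cover hL hZL hLV hLI hY hYZ' (hTQ hu) huV
    exact Or.inr ⟨k, hk, hkV, Pla.pt_le h (hL.cj k) hT hu hu1 huk, hTV⟩
  have hZk : ∀ {k : G}, k ∈ centralizer (V : Set G) → PT.cj k Z = Z := fun hk =>
    cj_eq_iff.2 (centralizer_le_normalizer _ (centralizer_le h.pl.ZV hk))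
  have hleW : ∀ T, IsCj Z T → T ≤ V ⊔ L → V ⊔ L ≤ ws V T := by
    intro T hT hTQ
    rcases hpt T hT hTQ with hTV | ⟨k, hk, hkV, hTk, hTV⟩
    · exact h.leW_V hL hZL hLV hLI ⟨hT, hTV⟩
    · have h1 : PT.cj k⁻¹ T ≤ L := by rw [cj_le_iff, inv_inv]; exact hTk
      have h2 : PT.cj k⁻¹ T ≠ Z := by
        intro e
        apply hTV
        have h3 : T = PT.cj k Z := by rw [← e, cj_cj, mul_inv_cancel, cj_one]
        rw [h3, hZk hkV]
        exact h.pl.ZV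
      have h3 := h.leW_L hL hZL hLV hLI (hT.cj k⁻¹) h1 h2
      have h4 := (cj_le_cj (g := k)).2 h3
      rwa [hcjQ hk, ← ws_cj, cj_cj, mul_inv_cancel, cj_one] at h4
  have hcov : ∀ u ∈ V ⊔ L, u ≠ 1 → ∃ X, IsCj Z X ∧ X ≤ V ⊔ L ∧ u ∈ X := by
    intro u hu hu1
    by_cases huV : u ∈ V
    · obtain ⟨X, hX, hXV, huX⟩ := h.pl.exists_point huV hu1
      exact ⟨X, hX, hXV.trans le_sup_left, huX⟩
    · obtain ⟨k, hk, hkV, huk⟩ := h.cover hL hZL hLV hLI hY hYZ' hu huV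
      obtain ⟨X, hX, hXV, huX⟩ := h.line_pt (hL.cj k) huk hu1
      refine ⟨X, hX, hXV.trans ?_, huX⟩
      rw [← hcjQ hk]
      exact cj_le_cj.2 le_sup_right
  -- lines on `Z`
  have hcolZ : ∀ T, IsCj Z T → T ≤ V ⊔ L → T ≠ Z → ∃ M, IsCj V M ∧ M ≤ V ⊔ L ∧ Z ≤ M ∧ T ≤ M := by
    intro T hT hTQ hTZ
    rcases hpt T hT hTQ with hTV | ⟨k, hk, hkV, hTk, hTV⟩
    · exact ⟨V, hVV, le_sup_left, h.pl.ZV, hTV⟩
    · refine ⟨PT.cj k L, hL.cj k, ?_, ?_, hTk⟩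
      · rw [← hcjQ hk]
        exact cj_le_cj.2 le_sup_right
      · rw [← hZk hkV]
        exact cj_le_cj.2 hZL
  have hcol : ∀ X T, IsCj Z X → IsCj Z T → X ≤ V ⊔ L → T ≤ V ⊔ L → X ≠ T →
      ∃ M, IsCj V M ∧ M ≤ V ⊔ L ∧ X ≤ M ∧ T ≤ M := by
    intro X T hX hT hXQ hTQ hXT
    by_cases hXZ : X = Z
    · subst hXZ
      exact hcolZ T hT hTQ hXT.symm
    obtain ⟨M, hM, hMQ, hZM, hXM⟩ := hcolZ X hX hXQ hXZ
    obtain ⟨S', C', Q', h'⟩ := h.flag hM h.pl.isCj_self hZM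
    obtain ⟨k, hk, -, hkX, hkZ⟩ := h'.pl.swap h'.hf hX hXM h'.pl.isCj_self hZM
    have hkN : k ∈ normalizer ((V ⊔ L : Subgroup G) : Set G) := by
      refine (sSup_le ?_ : XV M Z ≤ _) hk
      rintro _ ⟨T', hT', hTM', rfl⟩
      rw [kx_line hM]
      exact kx_normalizes (hTM'.trans hMQ) (hleW T' hT' (hTM'.trans hMQ))
    have hkQ := cj_eq_iff.2 hkN
    have hkT : PT.cj k T ≤ V ⊔ L := by rw [← hkQ]; exact cj_le_cj.2 hTQ
    obtain ⟨N, hN, hNQ, hZN, hTN⟩ := hcolZ _ (hT.cj k) hkT (fun e => hXT (by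
      rw [← hkX] at e
      exact (cj_inj.1 e).symm))
    have hkQ' : PT.cj k⁻¹ (V ⊔ L) = V ⊔ L := cj_eq_iff.2 (inv_mem hkN)
    refine ⟨PT.cj k⁻¹ N, hN.cj k⁻¹, ?_, ?_, ?_⟩
    · rw [← hkQ']; exact cj_le_cj.2 hNQ
    · rw [le_cj_iff, inv_inv, hkX]; exact hZN
    · rw [le_cj_iff, inv_inv]; exact hTN
  have hcardL : ∀ {M : Subgroup G}, IsCj V M → Nat.card M = Nat.card V := by
    rintro _ ⟨g, rfl⟩
    exact card_cj g V
  refine ⟨⟨V, hVV, le_sup_left⟩, hleW, hcov, hcol, ?_, ?_⟩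
  · intro M N hM hN hMQ hNQ
    have hQc : ∀ {a b : G}, a ∈ V ⊔ L → b ∈ V ⊔ L → a * b = b * a := fun ha hb =>
      h.pl.IV_comm (h.Q_le_I hL hZL hLV hLI ha) (h.Q_le_I hL hZL hLV hLI hb)
    have h1 := card_sup_mul (K := M) (H := N) (by
      refine le_trans ?_ (centralizer_le_normalizer _)
      intro l hl
      rw [mem_centralizer_iff]
      exact fun v hv => hQc (hMQ hv) (hNQ hl))
    rw [hcardL hM, hcardL hN] at h1
    have h2 := h.card_Q hL hZL hLV hLI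
    have h3 : Nat.card (M ⊔ N : Subgroup G) ≤ Nat.card (V ⊔ L : Subgroup G) := Subgroup.card_le_of_le (sup_le hMQ hNQ)
    have h4 : Nat.card (M ⊓ N : Subgroup G) ≠ 1 := by
      intro h5
      rw [h5, mul_one] at h1
      have h6 := h.pl.one_lt_card
      have h7 : 0 < Nat.card (V ⊔ L : Subgroup G) := Nat.card_pos
      rw [← h1] at h2
      nlinarith only [h2, h3, h6, h7]
    obtain ⟨u, hu, hu1⟩ : ∃ u ∈ M ⊓ N, u ≠ 1 := by
      by_contra hcon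
      push Not at hcon
      apply h4
      rw [(eq_bot_iff_forall _).2 hcon, card_bot]
    obtain ⟨X, hX, hXM, huX⟩ := h.line_pt hM hu.1 hu1
    exact ⟨X, hX, hXM, Pla.pt_le h hN hX huX hu1 hu.2⟩
  · intro M hM hMQ
    by_contra hcon
    push Not at hcon
    have h1 : V ⊔ L ≤ M := by
      intro u hu
      by_cases hu1 : u = 1
      · rw [hu1]; exact one_mem _
      obtain ⟨X, hX, hXQ, huX⟩ := hcov u hu hu1
      exact hcon X hX hXQ huX
    have h2 : V = M := Subgroup.eq_of_le_of_card_ge (le_sup_left.trans h1) (hcardL hM).le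
    apply hLV
    refine Subgroup.eq_of_le_of_card_ge ?_ (hcardL hL).ge
    rw [h2]
    exact le_sup_right.trans h1

end

/-- (N): `D_X(L) ≤ D_X(M)`, if `W_T K_X ≤ W_Y K_X`, `T ∈ M`, `Y ∈ L` -/
theorem dd_le_dd (hN : NN V Z) {L M X Y T : Subgroup G} (hL : IsCj V L) (hM : IsCj V M) (hX : IsCj Z X) (hXL : X ≤ L)
    (hXM : X ≤ M) (hY : IsCj Z Y) (hYL : Y ≤ L) (hYX : Y ≠ X) (hT : IsCj Z T) (hTM : T ≤ M) (hTX : T ≠ X)
    (hw : wk V X T ≤ wk V X Y) : dd L Z X ≤ dd M Z X := by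
  intro d hd
  have hdW : d ∈ ws V X := by
    have := dd_le hd
    rwa [ws_line hL] at this
  refine h.nn_dd hN hM hX hXM hT hTM hTX hdW fun u hu => ?_
  obtain ⟨u', hu', k, hk, rfl⟩ := mem_sup_norm (h.wk_norm hL hXL hY hYL) (hw (mem_sup_left hu))
  rw [h.dd_line hL hX hXL hY hYL hYX] at hd
  have h2 : d * u' = u' * d := (mem_centralizer_iff.1 hd.2 u' hu').symm
  have h3 : k * d * k⁻¹ * d⁻¹ ∈ X := (mem_kx.1 hk).2 d hdW
  have h4 : d * (u' * k) * d⁻¹ * (u' * k)⁻¹ = u' * (k * d * k⁻¹ * d⁻¹)⁻¹ * u'⁻¹ := by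
    calc d * (u' * k) * d⁻¹ * (u' * k)⁻¹ = (d * u') * k * d⁻¹ * k⁻¹ * u'⁻¹ := by group
      _ = u' * (k * d * k⁻¹ * d⁻¹)⁻¹ * u'⁻¹ := by rw [h2]; group
  rw [h4]
  have h6 : (k * d * k⁻¹ * d⁻¹)⁻¹ ∈ X := inv_mem h3
  have h7 := mem_centralizer_iff.1 (h.ws_le_line hL hY hYL hu') _ (hXL h6)
  rw [← h7, mul_inv_cancel_right]
  exact h6

/-- `E_X(L) ∩ E_X(M) ≤ D_X(L)`, if `W_Y K_X ≤ W_T K_X`, `T ∈ M`, `Y ∈ L` -/
theorem ee_inf {L M X Y T : Subgroup G} (hL : IsCj V L) (hM : IsCj V M) (hLM : L ≠ M) (hX : IsCj Z X) (hXL : X ≤ L)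
    (hXM : X ≤ M) (hY : IsCj Z Y) (hYL : Y ≤ L) (hYX : Y ≠ X) (hT : IsCj Z T) (hTM : T ≤ M) (hTX : T ≠ X)
    (hw : wk V X Y ≤ wk V X T) : ee L Z X ⊓ ee M Z X ≤ dd L Z X := by
  rintro w ⟨hwL, hwM⟩
  have hwW : w ∈ ws V X := by
    have := ee_le hwL
    rwa [ws_line hL] at this
  rw [h.dd_line hL hX hXL hY hYL hYX]
  refine ⟨hwW, mem_centralizer_iff.2 fun u hu => ?_⟩
  have h1 := h.ee_line_act hL hX hXL hY hYL hYX hwL hu
  have h2 : w * u * w⁻¹ * u⁻¹ ∈ M := by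
    obtain ⟨t, ht, k, hk, rfl⟩ := mem_sup_norm (h.wk_norm hM hXM hT hTM) (hw (mem_sup_left hu))
    have h3 := h.ee_line_act hM hX hXM hT hTM hTX hwM ht
    have h4 : w * k * w⁻¹ * k⁻¹ ∈ X := by
      have h3 := inv_mem ((mem_kx.1 hk).2 w hwW)
      have e1 : (k * w * k⁻¹ * w⁻¹)⁻¹ = w * k * w⁻¹ * k⁻¹ := by group
      rwa [e1] at h3
    have h5 : w * (t * k) * w⁻¹ * (t * k)⁻¹ = (w * t * w⁻¹ * t⁻¹) * (t * (w * k * w⁻¹ * k⁻¹) * t⁻¹) := by group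
    rw [h5, ← mem_centralizer_iff.1 (h.ws_le_line hM hT hTM ht) _ (hXM h4), mul_inv_cancel_right]
    exact M.mul_mem (hTM h3) (hXM h4)
  have h3 : w * u * w⁻¹ * u⁻¹ = 1 := by
    by_contra h4
    have h5 := Pla.pt_le h hM hY h1 h4 h2
    exact hLM (h.line_eq hL hM hX hY hXL hYL hXM h5 hYX.symm)
  rw [mul_inv_eq_one, mul_inv_eq_iff_eq_mul] at h3
  exact h3.symm

/-- **(5.2)** -/
theorem pla_of (hN : NN V Z) {L Y T : Subgroup G} (hL : IsCj V L) (hZL : Z ≤ L) (hLV : L ≠ V) (hLI : L ≤ IV V Z)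
    (hY : Pnt V Z Y) (hYZ : Y ≠ Z) (hT : IsCj Z T) (hTL : T ≤ L) (hTZ : T ≠ Z)
    (hA : ws V T ≤ ws V Y ⊔ kx V Z) (hE : ws V Z ≤ ee V Z Z ⊔ ee L Z Z) : Pla V Z (V ⊔ L) := by
  have hVV : IsCj V V := ⟨1, (cj_one V).symm⟩
  have hg := h.plg_of hL hZL hLV hLI
  set Q := V ⊔ L with hQ
  have hZQ : Z ≤ Q := h.pl.ZV.trans le_sup_left
  -- `W_R K_Z` does not depend on `R`
  have hTY : wk V Z T = wk V Z Y := by
    refine Subgroup.eq_of_le_of_card_ge (sup_le hA le_sup_right) ?_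
    exact (h.card_wk hVV hL h.pl.isCj_self h.pl.ZV hZL hY.cj hY.le hYZ hT hTL hTZ).le
  have hwk : ∀ R, IsCj Z R → R ≤ Q → R ≠ Z → wk V Z R = wk V Z Y := by
    intro R hR hRQ hRZ
    by_cases hRV : R ≤ V
    · exact h.wk_eq hVV h.pl.isCj_self h.pl.ZV hR hRV hRZ hY.cj hY.le hYZ
    obtain ⟨u, hu, hu1⟩ := h.pl.pt_ne_bot hR
    have huV : u ∉ V := fun e => hRV (Pla.pt_le h hVV hR hu hu1 e)
    obtain ⟨k, hk, hkV, huk⟩ := h.cover hL hZL hLV hLI hY hYZ (hRQ hu) huV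
    have hRk := Pla.pt_le h (hL.cj k) hR hu hu1 huk
    have hkZ : PT.cj k Z = Z := cj_eq_iff.2 (centralizer_le_normalizer _ (centralizer_le h.pl.ZV hkV))
    have hkY : PT.cj k Y = Y := cj_eq_iff.2 (centralizer_le_normalizer _ (centralizer_le hY.le hkV))
    have hZk : Z ≤ PT.cj k L := by rw [← hkZ]; exact cj_le_cj.2 hZL
    have hTk : PT.cj k T ≠ Z := fun e => hTZ (by rw [← hkZ] at e; exact cj_inj.1 e)
    rw [h.wk_eq (hL.cj k) h.pl.isCj_self hZk hR hRk hRZ (hT.cj k) (cj_le_cj.2 hTL) hTk]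
    have h1 := cj_wk V Z T k
    rw [hTY, cj_wk, hkZ, hkY] at h1
    exact h1.symm
  -- the case `X = Z`
  have himg : ∀ R R', IsCj Z R → IsCj Z R' → R ≤ Q → R' ≤ Q → R ≠ Z → R' ≠ Z →
      ∀ a ∈ ws V R, ∃ b ∈ ws V R', ∃ k ∈ kx V Z, a = b * k := by
    intro R R' hR hR' hRQ hRQ' hRZ hRZ' a ha
    obtain ⟨M, hM, hMQ, hZM, hRM⟩ := hg.col Z R' h.pl.isCj_self hR' hZQ hRQ' hRZ'.symm
    have h1 : a ∈ wk V Z R' := by
      rw [hwk R' hR' hRQ' hRZ', ← hwk R hR hRQ hRZ]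
      exact mem_sup_left ha
    exact mem_sup_norm (h.wk_norm hM hZM hR' hRM) h1
  have hcomm : ∀ {A A' : Subgroup G}, A ≤ ws V Z → A' ≤ ws V Z → A' ≤ normalizer (A : Set G) := by
    intro A A' hA hA'
    refine le_trans ?_ (centralizer_le_normalizer _)
    intro b hb
    rw [mem_centralizer_iff]
    exact fun a ha => h.comm_W h.pl.isCj_self (hA ha) (hA' hb)
  have hEW : ∀ {M : Subgroup G}, IsCj V M → ee M Z Z ≤ ws V Z := by
    intro M hM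
    have := ee_le (V := M) (Z := Z) (X := Z)
    rwa [ws_line hM] at this
  have hsec : ∀ M, IsCj V M → M ≤ Q → Z ≤ M → ∃ R, IsCj Z R ∧ R ≤ M ∧ R ≠ Z := fun M hM _ hZM =>
    Pla.exists_pt h hM h.pl.isCj_self hZM
  have hdd : ∀ M N, IsCj V M → IsCj V N → M ≤ Q → N ≤ Q → Z ≤ M → Z ≤ N → dd M Z Z ≤ dd N Z Z := by
    intro M N hM hN' hMQ hNQ hZM hZN
    obtain ⟨R, hR, hRM, hRZ⟩ := hsec M hM hMQ hZM
    obtain ⟨R', hR', hRN', hRZ'⟩ := hsec N hN' hNQ hZN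
    refine h.dd_le_dd hN hM hN' h.pl.isCj_self hZM hZN hR hRM hRZ hR' hRN' hRZ' ?_
    rw [hwk R hR (hRM.trans hMQ) hRZ, hwk R' hR' (hRN'.trans hNQ) hRZ']
  have hspl : ∀ M N, IsCj V M → IsCj V N → M ≤ Q → N ≤ Q → Z ≤ M → Z ≤ N → M ≠ N →
      ∀ a ∈ ws V Z, ∃ b ∈ ee M Z Z, ∃ c ∈ ee N Z Z, a = b * c := by
    intro M N hM hN' hMQ hNQ hZM hZN hMN a ha
    obtain ⟨R, hR, hRM, hRZ⟩ := hsec M hM hMQ hZM
    obtain ⟨R', hR', hRN', hRZ'⟩ := hsec N hN' hNQ hZN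
    have h1 : ee M Z Z ⊓ ee N Z Z ≤ dd V Z Z := by
      refine (h.ee_inf hM hN' hMN h.pl.isCj_self hZM hZN hR hRM hRZ hR' hRN' hRZ' ?_).trans
        (hdd M V hM hVV hMQ le_sup_left hZM h.pl.ZV)
      rw [hwk R hR (hRM.trans hMQ) hRZ, hwk R' hR' (hRN'.trans hNQ) hRZ']
    have h2 : dd V Z Z ≤ ee V Z Z ⊓ ee L Z Z :=
      le_inf (h.dd_le_ee_line hVV h.pl.isCj_self h.pl.ZV)
        ((hdd V L hVV hL le_sup_left le_sup_right h.pl.ZV hZL).trans (h.dd_le_ee_line hL h.pl.isCj_self hZL))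
    have h3 := card_sup_mul (K := ee M Z Z) (H := ee N Z Z) (hcomm (hEW hM) (hEW hN'))
    have h4 := card_sup_mul (K := ee V Z Z) (H := ee L Z Z) (hcomm (hEW hVV) (hEW hL))
    rw [h.card_ee hM h.pl.isCj_self hZM hVV h.pl.isCj_self h.pl.ZV,
      h.card_ee hN' h.pl.isCj_self hZN hVV h.pl.isCj_self h.pl.ZV] at h3
    rw [h.card_ee hL h.pl.isCj_self hZL hVV h.pl.isCj_self h.pl.ZV, ← h3] at h4
    have h5 : ee V Z Z ⊔ ee L Z Z = ws V Z := le_antisymm (sup_le (hEW hVV) (hEW hL)) hE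
    rw [h5] at h4
    have h6 : Nat.card (ee M Z Z ⊓ ee N Z Z : Subgroup G) ≤ Nat.card (ee V Z Z ⊓ ee L Z Z : Subgroup G) :=
      Subgroup.card_le_of_le (h1.trans h2)
    have h7 : ee M Z Z ⊔ ee N Z Z = ws V Z := by
      refine Subgroup.eq_of_le_of_card_ge (sup_le (hEW hM) (hEW hN')) ?_
      have h8 : 0 < Nat.card (ee V Z Z ⊓ ee L Z Z : Subgroup G) := Nat.card_pos
      by_contra h9
      push Not at h9
      have h10 : 0 < Nat.card (ee M Z Z ⊓ ee N Z Z : Subgroup G) := Nat.card_pos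
      nlinarith only [h4, h6, h9, h10]
    rw [← h7] at ha
    exact mem_sup_norm (le_trans (fun b hb => by
      rw [mem_centralizer_iff]
      exact fun c hc => h.comm_W h.pl.isCj_self (hEW hN' hc) (hEW hM hb) : ee M Z Z ≤ centralizer (ee N Z Z : Set G))
      (centralizer_le_normalizer _)) ha
  refine ⟨hg, ?_, ?_⟩
  · intro X R R' hX hR hR' hXQ hRQ hRQ' hRX hRX' a ha
    obtain ⟨g, hgQ, rfl⟩ := hg.trans h h.pl.isCj_self hX hZQ hXQ
    have hQg : PT.cj g⁻¹ Q = Q := cj_eq_iff.2 (inv_mem hgQ)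
    have hle : ∀ {A : Subgroup G}, A ≤ Q → PT.cj g⁻¹ A ≤ Q := fun {A} hA => by
      rw [← hQg]; exact cj_le_cj.2 hA
    have hne : ∀ {A : Subgroup G}, A ≠ PT.cj g Z → PT.cj g⁻¹ A ≠ Z := fun {A} hA e => hA (by
      rw [← e, cj_cj, mul_inv_cancel, cj_one])
    have hback : ∀ (a : G), g * (g⁻¹ * a * g) * g⁻¹ = a := fun a => by group
    obtain ⟨b, hb, k, hk, e⟩ := himg _ _ (hR.cj g⁻¹) (hR'.cj g⁻¹) (hle hRQ) (hle hRQ') (hne hRX) (hne hRX')
      (g⁻¹ * a * g) (by rw [ws_cj, mem_cj, inv_inv, hback]; exact ha)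
    refine ⟨g * b * g⁻¹, ?_, g * k * g⁻¹, ?_, ?_⟩
    · rwa [ws_cj, mem_cj, inv_inv] at hb
    · rw [kx_cj]; exact conj_mem_cj hk
    · rw [← hback a, e]; group
  · intro X M N hX hM hN' hMQ hNQ hXM hXN hMN a ha
    obtain ⟨g, hgQ, rfl⟩ := hg.trans h h.pl.isCj_self hX hZQ (hXM.trans hMQ)
    have hQg : PT.cj g⁻¹ Q = Q := cj_eq_iff.2 (inv_mem hgQ)
    have hle : ∀ {A : Subgroup G}, A ≤ Q → PT.cj g⁻¹ A ≤ Q := fun {A} hA => by
      rw [← hQg]; exact cj_le_cj.2 hA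
    have hback : ∀ (a : G), g * (g⁻¹ * a * g) * g⁻¹ = a := fun a => by group
    have hZ : PT.cj g⁻¹ (PT.cj g Z) = Z := by rw [cj_cj, inv_mul_cancel, cj_one]
    obtain ⟨b, hb, k, hk, e⟩ := hspl (PT.cj g⁻¹ M) (PT.cj g⁻¹ N) (hM.cj g⁻¹) (hN'.cj g⁻¹) (hle hMQ) (hle hNQ)
      (by rw [← hZ]; exact cj_le_cj.2 hXM) (by rw [← hZ]; exact cj_le_cj.2 hXN) (fun e => hMN (cj_inj.1 e))
      (g⁻¹ * a * g) (by rw [← mem_cj, ← ws_cj]; exact ha)
    refine ⟨g * b * g⁻¹, ?_, g * k * g⁻¹, ?_, ?_⟩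
    · have h1 := conj_mem_cj (g := g) hb
      rwa [cj_conj_ee, cj_cj, mul_inv_cancel, cj_one] at h1
    · have h1 := conj_mem_cj (g := g) hk
      rwa [cj_conj_ee, cj_cj, mul_inv_cancel, cj_one] at h1
    · rw [← hback a, e]; group

/-- **LEMMA PLANE** -/
theorem no_fold (hN : NN V Z) {L Y T : Subgroup G} (hL : IsCj V L) (hZL : Z ≤ L) (hLV : L ≠ V) (hLI : L ≤ IV V Z)
    (hY : Pnt V Z Y) (hYZ : Y ≠ Z) (hT : IsCj Z T) (hTL : T ≤ L) (hTZ : T ≠ Z)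
    (hA : ws V T ≤ ws V Y ⊔ kx V Z) (hE : ws V Z ≤ ee V Z Z ⊔ ee L Z Z) : False :=
  h.no_plane hN (h.pla_of hN hL hZL hLV hLI hY hYZ hT hTL hTZ hA hE)

end One

end Cfsg.Agent.Omega.NO3S.OneQ

end

section


/-!
# NO-3S, `OneQ`, critical distance 1: THEOREM ALPHA for `q ≥ 4` (bb OMEGA #19637 (B)), tools and case (a)

`h : One S B P V Z`, `u ∈ I - V` (`I = IV V Z`), `hD : D_Z ≤ I`, `hw : C_{W_Z}(E_Y) ≤ E_Z`.

* `xs V Z u = C_{X_l}(u)`, `ul V Z u = C_I(C_{X_l}(u))`; `Alpha.irr`, `Alpha.trans`, `Alpha.ul_inf` : `U_l ∩ V = 1`;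
  `Alpha.ul_card` : `|U_l| ≤ |Z|`;
* `Alpha.line_le` : a line on `Z` which contains `w ∈ I - Z` lies in `I`;
* `Alpha.mem_pt` : if a point collinear with `Z` meets `U_l`, then it contains `u`;
* `Alpha.inf_ul` : `W_Z ∩ Θ ≤ U_l` for a `J`-invariant `Θ` with `Z ∩ Θ = 1`, `J ≥ C_{X_l}(u), W_X`;
* `Alpha.le_o2_of_cent` : characteristic 2 type: `A ≤ C(U)` centralises `O₂(C(U))` ==> `A ≤ O₂(C(U))`;
* `Alpha.alpha_a` : `W_Z ∩ O₂(C(U)) ≤ U ≤ U_l` is impossible if no point collinear with `Z` contains `u`.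
-/

set_option autoImplicit false
set_option linter.unusedSectionVars false

namespace Cfsg.Agent.Omega.NO3S.OneQ.Alpha

open Subgroup Cfsg Cfsg.Agent.Omega.NO3S.PT Cfsg.Agent.Omega.NO3S.OneQ Cfsg.Agent.Omega.NoFF.Basic
open Cfsg.Agent.ZN (o2)
open Cfsg.Agent.ZN.Block (le_o2 o2_le o2_isPGroup le_normalizer_o2)
open scoped Pointwise

variable {G : Type*} [Group G]

/-! ### general lemmas -/

theorem comm_of_conj {a b : G} (h : a * b * a⁻¹ = b) : a * b = b * a := by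
  rwa [mul_inv_eq_iff_eq_mul] at h

theorem conj_of_comm {a b : G} (h : a * b = b * a) : a * b * a⁻¹ = b := by
  rw [h, mul_inv_cancel_right]

theorem comm_of_cm {a b : G} (h : a * b * a⁻¹ * b⁻¹ = 1) : a * b = b * a := by
  rwa [mul_inv_eq_one, mul_inv_eq_iff_eq_mul] at h

theorem conj_mem {T : Subgroup G} {g t : G} (hg : g ∈ normalizer (T : Set G)) (ht : t ∈ T) : g * t * g⁻¹ ∈ T :=
  (mem_normalizer_iff.1 hg t).1 ht

theorem conj_mem' {T : Subgroup G} {g t : G} (hg : g ∈ normalizer (T : Set G)) (ht : t ∈ T) : g⁻¹ * t * g ∈ T := by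
  have := conj_mem (inv_mem hg) ht
  rwa [inv_inv] at this

/-- `A` a 2-group, `R₀ < A`: some element of `A` outside `R₀` normalises `R₀` -/
theorem exists_norm_of_lt [Finite G] {A R₀ : Subgroup G} (hA : IsPGroup 2 A) (hle : R₀ ≤ A) (hne : ¬ A ≤ R₀) :
    ∃ x ∈ A, x ∉ R₀ ∧ x ∈ normalizer (R₀ : Set G) := by
  have : Fact (Nat.Prime 2) := ⟨Nat.prime_two⟩
  have hlt : R₀.subgroupOf A < ⊤ := by
    refine lt_of_le_of_ne le_top fun e => hne ?_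
    exact subgroupOf_eq_top.mp e
  have : Group.IsNilpotent A := hA.isNilpotent
  have h1 := Group.normalizerCondition_of_isNilpotent (G := A) _ hlt
  obtain ⟨x, hx, hxT⟩ := SetLike.exists_of_lt h1
  refine ⟨x, x.2, fun hc => hxT (mem_subgroupOf.mpr hc), ?_⟩
  rw [mem_normalizer_iff] at hx ⊢
  intro t
  constructor
  · intro ht
    exact mem_subgroupOf.mp ((hx ⟨t, hle ht⟩).mp (mem_subgroupOf.mpr ht))
  · intro ht
    have h2 : (x : G) * t * (x : G)⁻¹ ∈ A := hle ht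
    have h3 : t ∈ A := by
      have := mul_mem (mul_mem (inv_mem x.2) h2) x.2
      have e : (x : G)⁻¹ * (x * t * (x : G)⁻¹) * x = t := by group
      rwa [e] at this
    exact mem_subgroupOf.mp ((hx ⟨t, h3⟩).mpr (mem_subgroupOf.mpr ht))

/-- a form of the three subgroups lemma -/
theorem three_sub {Γ : Type*} [Group Γ] {K A B : Γ} (h1 : Commute (K * A * K⁻¹ * A⁻¹) A)
    (h2 : Commute (K * A * K⁻¹ * A⁻¹) B) (h3 : Commute (K * B * K⁻¹ * B⁻¹) A)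
    (h4 : Commute (K * B * K⁻¹ * B⁻¹) B) (h5 : Commute (K⁻¹ * A * K * A⁻¹) B) :
    K * (A * B * A⁻¹ * B⁻¹) * K⁻¹ = A * B * A⁻¹ * B⁻¹ := by
  obtain ⟨a, ha⟩ : ∃ a, a = K * A * K⁻¹ * A⁻¹ := ⟨_, rfl⟩
  obtain ⟨b, hb⟩ : ∃ b, b = K * B * K⁻¹ * B⁻¹ := ⟨_, rfl⟩
  rw [← ha] at h1 h2
  rw [← hb] at h3 h4
  have h6 : Commute a⁻¹ (b * B) := by
    have e1 : a⁻¹ = K * (K⁻¹ * A * K * A⁻¹) * K⁻¹ := by rw [ha]; group
    have e2 : b * B = K * B * K⁻¹ := by rw [hb]; group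
    rw [e1, e2]
    have := h5.eq
    change K * (K⁻¹ * A * K * A⁻¹) * K⁻¹ * (K * B * K⁻¹) = K * B * K⁻¹ * (K * (K⁻¹ * A * K * A⁻¹) * K⁻¹)
    calc K * (K⁻¹ * A * K * A⁻¹) * K⁻¹ * (K * B * K⁻¹) = K * ((K⁻¹ * A * K * A⁻¹) * B) * K⁻¹ := by group
      _ = K * (B * (K⁻¹ * A * K * A⁻¹)) * K⁻¹ := by rw [this]
      _ = K * B * K⁻¹ * (K * (K⁻¹ * A * K * A⁻¹) * K⁻¹) := by group
  have h7 : Commute a b := by
    have h8 : Commute a⁻¹ b := by
      have := h6.mul_right (h2.inv_left.inv_right)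
      rwa [mul_inv_cancel_right] at this
    rw [← inv_inv a]
    exact h8.inv_left
  have e1 : K * (A * B * A⁻¹ * B⁻¹) * K⁻¹ = (a * A) * (b * B) * (a * A)⁻¹ * (b * B)⁻¹ := by
    rw [ha, hb]; group
  have e2 : A * b = b * A := h3.eq.symm
  have e3 : A⁻¹ * a⁻¹ = a⁻¹ * A⁻¹ := (h1.inv_left.inv_right).eq.symm
  have e4 : (A * B) * a⁻¹ = a⁻¹ * (A * B) := ((h1.mul_right h2).inv_left).eq.symm
  have e5 : a * b * a⁻¹ = b := by rw [h7.eq]; group
  have e6 : b * (A * B * A⁻¹ * B⁻¹) = (A * B * A⁻¹ * B⁻¹) * b :=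
    (((h3.mul_right h4).mul_right h3.inv_right).mul_right h4.inv_right).eq
  rw [e1]
  calc (a * A) * (b * B) * (a * A)⁻¹ * (b * B)⁻¹ = a * (A * b) * B * (A⁻¹ * a⁻¹) * (B⁻¹ * b⁻¹) := by group
    _ = a * (b * A) * B * (a⁻¹ * A⁻¹) * (B⁻¹ * b⁻¹) := by rw [e2, e3]
    _ = a * b * ((A * B) * a⁻¹) * A⁻¹ * B⁻¹ * b⁻¹ := by group
    _ = a * b * (a⁻¹ * (A * B)) * A⁻¹ * B⁻¹ * b⁻¹ := by rw [e4]
    _ = (a * b * a⁻¹) * (A * B * A⁻¹ * B⁻¹) * b⁻¹ := by group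
    _ = (A * B * A⁻¹ * B⁻¹) * b * b⁻¹ := by rw [e5, e6]
    _ = A * B * A⁻¹ * B⁻¹ := by group

/-- characteristic 2 type: a subgroup of `C(U)` which centralises `O₂(C(U))` lies in `O₂(C(U))` -/
theorem le_o2_of_cent [Finite G] (hG : IsCharacteristicTwoType G) {U A : Subgroup G} (hU : IsPGroup 2 U)
    (hne : U ≠ ⊥) (hA : A ≤ centralizer (U : Set G))
    (hAQ : ∀ a ∈ A, ∀ q ∈ o2 (centralizer (U : Set G)), a * q = q * a) : A ≤ o2 (centralizer (U : Set G)) := by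
  have : Fact (Nat.Prime 2) := ⟨Nat.prime_two⟩
  set J := centralizer (U : Set G) with hJ
  set M := normalizer (U : Set G) with hM
  have hJM : J ≤ M := centralizer_le_normalizer _
  have hMJ : M ≤ normalizer (J : Set G) := norm_cent
  set E : Subgroup G := J ⊓ centralizer ((o2 J : Subgroup G) : Set G) with hE
  have hAE : A ≤ E := fun a ha => ⟨hA ha, mem_centralizer_iff.2 fun q hq => (hAQ a ha q hq).symm⟩
  have hEn : J ≤ normalizer (E : Set G) := by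
    intro g hg
    have e1 : cj g J = J := cj_eq_iff.2 (Subgroup.le_normalizer hg)
    have e2 : cj g (centralizer ((o2 J : Subgroup G) : Set G)) = centralizer ((o2 J : Subgroup G) : Set G) := by
      rw [cj_centralizer, cj_eq_iff.2 (le_normalizer_o2 J hg)]
    rw [← cj_eq_iff, hE, cj_inf, e1, e2]
  have hMQ : J ⊓ o2 M ≤ o2 J := by
    refine le_o2 ((o2_isPGroup M).to_le inf_le_right) inf_le_left fun g hg => ?_
    rw [← cj_eq_iff, cj_inf, cj_eq_iff.2 (Subgroup.le_normalizer hg), cj_eq_iff.2 (le_normalizer_o2 M (hJM hg))]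
  have hE2 : IsPGroup 2 E := by
    obtain ⟨m, hm⟩ := IsPGroup.iff_card.1 (o2_isPGroup J)
    rintro ⟨e, he, heQ⟩
    have h1 : ∀ y ∈ o2 M, e ^ (2 ^ m) * y = y * e ^ (2 ^ m) := by
      intro y hy
      obtain ⟨c, hc⟩ : ∃ c, c = e * y * e⁻¹ * y⁻¹ := ⟨_, rfl⟩
      have hyM := o2_le M hy
      have hcQ : c ∈ o2 J := by
        refine hMQ ⟨?_, ?_⟩
        · have e1 : c = e * (y * e⁻¹ * y⁻¹) := by rw [hc]; group
          rw [e1]
          exact J.mul_mem he (conj_mem (hMJ hyM) (J.inv_mem he))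
        · rw [hc]
          exact (o2 M).mul_mem (conj_mem (le_normalizer_o2 M (hJM he)) hy) ((o2 M).inv_mem hy)
      have hec : e * c = c * e := (mem_centralizer_iff.1 heQ c hcQ).symm
      have hey : e * y = c * y * e := by rw [hc]; group
      have h2 : ∀ n : ℕ, e ^ n * y = c ^ n * y * e ^ n := by
        intro n
        induction n with
        | zero => simp
        | succ n ih =>
          have h3 : e * c ^ n = c ^ n * e := ((show Commute e c from hec).pow_right n).eq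
          calc e ^ (n + 1) * y = e * (e ^ n * y) := by rw [pow_succ']; group
            _ = (e * c ^ n) * y * e ^ n := by rw [ih]; group
            _ = c ^ n * (e * y) * e ^ n := by rw [h3]; group
            _ = c ^ (n + 1) * y * e ^ (n + 1) := by rw [hey, pow_succ c, pow_succ' e]; group
      have h3 : c ^ (2 ^ m) = 1 := by
        have h4 : (⟨c, hcQ⟩ : o2 J) ^ Nat.card (o2 J) = 1 := pow_card_eq_one'
        rw [hm] at h4
        exact congrArg Subtype.val h4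
      rw [h2, h3, one_mul]
    have h2 : e ^ (2 ^ m) ∈ o2 M := mem_o2_of_c2 hG hU hne (hJM (pow_mem he _)) h1
    obtain ⟨n, hn⟩ := o2_isPGroup M ⟨_, h2⟩
    refine ⟨m + n, Subtype.ext ?_⟩
    have h3 : (e ^ (2 ^ m)) ^ 2 ^ n = 1 := congrArg Subtype.val hn
    show e ^ 2 ^ (m + n) = 1
    rw [pow_add, pow_mul, h3]
  exact hAE.trans (le_o2 hE2 inf_le_left hEn)

/-! ### `X_l*` and `U_l` -/

/-- `X_l* = C_{X_l}(u)` -/
def xs (V Z : Subgroup G) (u : G) : Subgroup G := XV V Z ⊓ centralizer ({u} : Set G)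

/-- `U_l = C_I(X_l*)` -/
def ul (V Z : Subgroup G) (u : G) : Subgroup G := IV V Z ⊓ centralizer ((xs V Z u : Subgroup G) : Set G)

theorem mem_xs {V Z : Subgroup G} {u g : G} : g ∈ xs V Z u ↔ g ∈ XV V Z ∧ g * u = u * g := by
  unfold xs
  rw [mem_inf, mem_centralizer_singleton_iff]

theorem mem_ul {V Z : Subgroup G} {u w : G} : w ∈ ul V Z u ↔ w ∈ IV V Z ∧ ∀ g ∈ xs V Z u, g * w = w * g := by
  unfold ul
  rw [mem_inf, mem_centralizer_iff]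
  rfl

theorem self_mem_ul {V Z : Subgroup G} {u : G} (hu : u ∈ IV V Z) : u ∈ ul V Z u :=
  mem_ul.2 ⟨hu, fun _ hg => (mem_xs.1 hg).2⟩

section

variable [Finite G] {S : Sylow 2 G} {B P V Z : Subgroup G} (h : One S B P V Z)
include h

theorem act_eq {x g v : G} (hxg : x * g⁻¹ ∈ centralizer (V : Set G)) (hg : g ∈ normalizer (V : Set G)) (hv : v ∈ V) :
    x * v * x⁻¹ = g * v * g⁻¹ := by
  have h1 := mem_centralizer_iff.1 hxg _ (conj_mem hg hv)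
  calc x * v * x⁻¹ = (x * g⁻¹) * (g * v * g⁻¹) * (x * g⁻¹)⁻¹ := by group
    _ = (g * v * g⁻¹) * (x * g⁻¹) * (x * g⁻¹)⁻¹ := by rw [h1]
    _ = _ := by group

/-- a line on `Z` which contains `w ∈ I - Z` lies in `I` -/
theorem line_le (hD : dd V Z Z ≤ IV V Z) {L : Subgroup G} (hL : IsCj V L) (hZL : Z ≤ L) {w : G} (hw : w ∈ L)
    (hwZ : w ∉ Z) (hwI : w ∈ IV V Z) : L ≤ IV V Z := by
  obtain ⟨Y, hY, hYZ⟩ := h.exists_ne h.self
  refine le_trans ?_ hD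
  rw [h.dd_eq h.self hY hYZ]
  refine le_inf (h.line_le_ws hL hZL) fun l hl => ?_
  rw [mem_centralizer_iff]
  intro a ha
  obtain ⟨S', C', Q', h'⟩ := h.flag hL h.pl.isCj_self hZL
  have h1 := h'.lin_base (k := a) (v := w) (fun z hz => ?_) hw hwZ ?_
  · exact (mem_centralizer_iff.1 h1 l hl).symm
  · exact h.comm_W hY.cj ha (h.V_le_W hY (h.pl.ZV hz))
  · exact (h.I_comm_W hY hwI ha).symm

variable {u : G} (hu : u ∈ IV V Z) (huV : u ∉ V)
include hu huV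

theorem cover {g : G} (hg : g ∈ XV V Z) : ∃ x ∈ xs V Z u, x * g⁻¹ ∈ centralizer (V : Set G) := by
  obtain ⟨x, hx, hxu, hxg⟩ := h.pl.F2_cover h.hf h.hO hu huV hg
  exact ⟨x, mem_xs.2 ⟨hx, hxu⟩, hxg⟩

theorem trans {X Y : Subgroup G} (hX : Pnt V Z X) (hY : Pnt V Z Y) : ∃ g ∈ xs V Z u, cj g X = Y := by
  obtain ⟨x, hx, -, hxu, hxX, -⟩ := h.pl.F2_swap h.hf h.hO hu huV hX.cj hX.le hY.cj hY.le
  exact ⟨x, mem_xs.2 ⟨hx, hxu⟩, hxX⟩

/-- `X_l*` is irreducible on `V` -/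
theorem irr {D : Subgroup G} (hD : D ≤ V) (hDn : ∀ g ∈ xs V Z u, ∀ d ∈ D, g * d * g⁻¹ ∈ D) (hne : D ≠ ⊥) : D = V := by
  refine h.pl.irr h.hf hD (fun g hg d hd => ?_) hne
  obtain ⟨x, hx, hxg⟩ := cover h hu huV hg
  rw [← act_eq h hxg (h.pl.XV_le_N hg) (hD hd)]
  exact hDn x hx d hd

theorem V_le_of {T : Subgroup G} (hT : ∀ g ∈ xs V Z u, ∀ d ∈ T, g * d * g⁻¹ ∈ T) {v : G} (hv : v ∈ V) (hv1 : v ≠ 1)
    (hvT : v ∈ T) : V ≤ T := by
  have h1 : V ⊓ T = V := by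
    refine irr h hu huV inf_le_left (fun g hg d hd => ⟨?_, hT g hg d hd.2⟩) fun e => hv1 ?_
    · exact conj_mem (h.pl.XV_le_N (mem_xs.1 hg).1) hd.1
    · have : v ∈ V ⊓ T := ⟨hv, hvT⟩
      rwa [e, mem_bot] at this
  rw [← h1]
  exact inf_le_right

/-- `U_l ∩ V = 1` -/
theorem ul_inf {v : G} (hv : v ∈ V) (hvu : v ∈ ul V Z u) : v = 1 := by
  refine h.pl.cent_IV h.hf (h.pl.V_le_IV hv) fun g hg => ?_
  obtain ⟨x, hx, hxg⟩ := cover h hu huV hg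
  refine comm_of_conj ?_
  rw [← act_eq h hxg (h.pl.XV_le_N hg) hv]
  exact conj_of_comm ((mem_ul.1 hvu).2 x hx)

/-- `|U_l| ≤ q` -/
theorem ul_card : Nat.card (ul V Z u) ≤ Nat.card Z := by
  obtain ⟨z, hz, hz1⟩ := h.pl.pt_ne_bot h.pl.isCj_self
  obtain ⟨c, hc, hcV, hcu⟩ := h.pl.F2' h.hf h.hO hu huV h.pl.isCj_self h.pl.ZV hz
  have hIc : ∀ {w : G}, w ∈ IV V Z → ∀ v ∈ V, w * v = v * w := fun hw v hv => h.pl.IV_comm hw (h.pl.V_le_IV hv)
  let f : ul V Z u →* Z :=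
    { toFun := fun w => ⟨c * w * c⁻¹ * (w : G)⁻¹, (mem_kx.1 hc).2 w (h.I_le_W h.self (mem_ul.1 w.2).1)⟩
      map_one' := by
        apply Subtype.ext
        show c * 1 * c⁻¹ * (1 : G)⁻¹ = 1
        group
      map_mul' := by
        rintro ⟨a, ha⟩ ⟨b, hb⟩
        apply Subtype.ext
        show c * (a * b) * c⁻¹ * (a * b)⁻¹ = c * a * c⁻¹ * a⁻¹ * (c * b * c⁻¹ * b⁻¹)
        have h1 : c * b * c⁻¹ * b⁻¹ ∈ V := h.pl.ZV ((mem_kx.1 hc).2 b (h.I_le_W h.self (mem_ul.1 hb).1))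
        calc c * (a * b) * c⁻¹ * (a * b)⁻¹ = c * a * c⁻¹ * (c * b * c⁻¹ * b⁻¹) * a⁻¹ := by group
          _ = c * a * c⁻¹ * a⁻¹ * (a * (c * b * c⁻¹ * b⁻¹)) * a⁻¹ := by group
          _ = c * a * c⁻¹ * a⁻¹ * ((c * b * c⁻¹ * b⁻¹) * a) * a⁻¹ := by rw [hIc (mem_ul.1 ha).1 _ h1]
          _ = _ := by group }
  refine Nat.card_le_card_of_injective f ((injective_iff_map_eq_one f).2 ?_)
  rintro ⟨w, hw⟩ hfw
  have hcw : c * w = w * c := comm_of_cm (congrArg Subtype.val hfw)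
  have hwI := (mem_ul.1 hw).1
  apply Subtype.ext
  show w = 1
  obtain ⟨Y, hY, hYZ⟩ := h.exists_ne h.self
  refine ul_inf h hu huV (h.mem_V_of_kx hwI hY fun k hk hkV => ?_) hw
  by_cases hku : k * u = u * k
  · exact (mem_ul.1 hw).2 k (mem_xs.2 ⟨le_XV hY.cj hY.le hk, hku⟩)
  obtain ⟨y, hy⟩ : ∃ y, y = k * u * k⁻¹ * u⁻¹ := ⟨_, rfl⟩
  have hyY : y ∈ Y := by rw [hy]; exact (mem_kx.1 hk).2 u (h.I_le_W hY hu)
  have hy1 : y ≠ 1 := fun e => hku (comm_of_cm (hy.symm.trans e))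
  have hzyV : z * y ∈ V := V.mul_mem (h.pl.ZV hz) (hY.le hyY)
  have hzy1 : z * y ≠ 1 := by
    intro e
    have e1 : z = y⁻¹ := eq_inv_of_mul_eq_one_left e
    exact hYZ (h.pl.pts_eq hY.cj h.pl.isCj_self (Y.inv_mem hyY) (e1 ▸ hz) (by rwa [← e1]))
  obtain ⟨T, hT, hTV, hzyT⟩ := h.pl.exists_point hzyV hzy1
  have hTY : T ≠ Y := by
    rintro rfl
    have e1 : z ∈ T := (T.mul_mem_cancel_right hyY).1 hzyT
    exact hYZ (h.pl.pts_eq hY.cj h.pl.isCj_self e1 hz hz1)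
  obtain ⟨d, hd, hdV, hdu⟩ := h.pl.F2' h.hf h.hO hu huV hT hTV hzyT
  -- `c k` and `d` agree on `u`
  have hcy : c * y = y * c := (mem_centralizer_iff.1 hcV y (hY.le hyY)).symm
  have hck : c * k * u * (c * k)⁻¹ = z * y * u := by
    calc c * k * u * (c * k)⁻¹ = c * (k * u * k⁻¹ * u⁻¹) * u * c⁻¹ := by group
      _ = (c * y) * u * c⁻¹ := by rw [← hy]
      _ = y * (c * u * c⁻¹ * u⁻¹) * u := by rw [hcy]; group
      _ = (y * z) * u := by rw [hcu]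
      _ = z * y * u := by rw [h.pl.Vcomm (hY.le hyY) (h.pl.ZV hz)]
  have hd' : d * u * d⁻¹ = z * y * u := by rw [← hdu]; group
  have h1 : d⁻¹ * (c * k) ∈ xs V Z u := by
    refine mem_xs.2 ⟨mul_mem (inv_mem (le_XV hT hTV hd))
      (mul_mem (le_XV h.pl.isCj_self h.pl.ZV hc) (le_XV hY.cj hY.le hk)), comm_of_conj ?_⟩
    calc d⁻¹ * (c * k) * u * (d⁻¹ * (c * k))⁻¹ = d⁻¹ * (c * k * u * (c * k)⁻¹) * d := by group
      _ = d⁻¹ * (d * u * d⁻¹) * d := by rw [hck, hd']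
      _ = u := by group
  have h2 := conj_of_comm ((mem_ul.1 hw).2 _ h1)
  have h3 : c * k * w * (c * k)⁻¹ = d * w * d⁻¹ := by
    calc c * k * w * (c * k)⁻¹ = d * (d⁻¹ * (c * k) * w * (d⁻¹ * (c * k))⁻¹) * d⁻¹ := by group
      _ = _ := by rw [h2]
  have h4 : k * w * k⁻¹ * w⁻¹ ∈ Y := (mem_kx.1 hk).2 w (h.I_le_W hY hwI)
  have h5 : c * k * w * (c * k)⁻¹ * w⁻¹ = k * w * k⁻¹ * w⁻¹ := by
    have h6 : c * (k * w * k⁻¹ * w⁻¹) = k * w * k⁻¹ * w⁻¹ * c := (mem_centralizer_iff.1 hcV _ (hY.le h4)).symm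
    have h7 : c * w * c⁻¹ = w := conj_of_comm hcw
    calc c * k * w * (c * k)⁻¹ * w⁻¹ = (c * (k * w * k⁻¹ * w⁻¹)) * (w * c⁻¹) * w⁻¹ := by group
      _ = (k * w * k⁻¹ * w⁻¹) * (c * w * c⁻¹) * w⁻¹ := by rw [h6]; group
      _ = k * w * k⁻¹ * w⁻¹ := by rw [h7]; group
  have h6 : k * w * k⁻¹ * w⁻¹ ∈ T := by
    rw [← h5, h3]
    exact (mem_kx.1 hd).2 w (IV_le hT hTV hwI)
  have h7 : k * w * k⁻¹ * w⁻¹ ∈ T ⊓ Y := ⟨h6, h4⟩
  rw [h.pl.pts_inf hT hY.cj hTY, mem_bot] at h7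
  exact comm_of_cm h7

/-- a point collinear with `Z` which meets `U_l` contains `u` -/
theorem mem_pt (hD : dd V Z Z ≤ IV V Z) {N p : Subgroup G} (hN : IsCj V N) (hZN : Z ≤ N) (hp : IsCj Z p)
    (hpN : p ≤ N) {c : G} (hc : c ∈ ul V Z u) (hc1 : c ≠ 1) (hcp : c ∈ p) : u ∈ p := by
  have hcV : c ∉ V := fun e => hc1 (ul_inf h hu huV e hc)
  have hNI : N ≤ IV V Z := line_le h hD hN hZN (hpN hcp) (fun e => hcV (h.pl.ZV e)) (mem_ul.1 hc).1
  have hpU : p ≤ ul V Z u := by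
    intro w hw
    refine mem_ul.2 ⟨hNI (hpN hw), fun g hg => ?_⟩
    have hgn := h.pl.norm_of_comm hp hcp hc1 ((mem_ul.1 hc).2 g hg)
    have h1 : g * w * g⁻¹ * w⁻¹ ∈ p := mul_mem (conj_mem hgn hw) (inv_mem hw)
    have h2 := h.pl.XV_act (mem_xs.1 hg).1 (hNI (hpN hw))
    by_contra hne
    have h3 : p ≤ V := Pla.pt_le h ⟨1, (cj_one V).symm⟩ hp h1 (fun e => hne (comm_of_cm e)) h2
    exact hcV (h3 hcp)
  have h1 : p = ul V Z u := by
    refine Subgroup.eq_of_le_of_card_ge hpU ?_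
    rw [h.pl.card_pt hp]
    exact ul_card h hu huV
  rw [h1]
  exact self_mem_ul hu

/-- `W_Z ∩ Θ ≤ U_l` -/
theorem inf_ul (hD : dd V Z Z ≤ IV V Z) (hw : w1 V Z Z ≤ ee V Z Z) {J T : Subgroup G}
    (hxJ : xs V Z u ≤ J) (hWJ : ∀ Y, Pnt V Z Y → ws V Y ≤ J) (hT : J ≤ normalizer (T : Set G))
    (hZ : ∀ z ∈ Z, z ∈ T → z = 1) {r : G} (hr : r ∈ ws V Z) (hrT : r ∈ T) : r ∈ ul V Z u := by
  have hVT : ∀ v ∈ V, v ∈ T → v = 1 := by
    intro v hv hvT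
    by_contra hv1
    have h1 := V_le_of h hu huV (T := T) (fun g hg d hd => conj_mem (hT (hxJ hg)) hd) hv hv1 hvT
    obtain ⟨z, hz, hz1⟩ := h.pl.pt_ne_bot h.pl.isCj_self
    exact hz1 (hZ z hz (h1 (h.pl.ZV hz)))
  have hcm : ∀ j ∈ J, j * r * j⁻¹ * r⁻¹ ∈ T := fun j hj => mul_mem (conj_mem (hT hj) hrT) (inv_mem hrT)
  obtain ⟨Y, hY, hYZ⟩ := h.exists_ne h.self
  have h1 : r ∈ ee V Z Z := by
    apply hw
    rw [h.w1_eq h.self hY hYZ]
    refine ⟨hr, mem_centralizer_iff.2 fun e he => ?_⟩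
    refine comm_of_cm (hZ _ (h.ee_act h.self (Ne.symm hYZ) he hr) (hcm e (hWJ Y hY (ee_le he))))
  have h2 : r ∈ dd V Z Z := by
    refine h.mem_dd_of h.self hY hYZ hr fun w hwY => ?_
    have h3 := h.ee_act' hY hYZ h1 hwY
    exact (comm_of_cm (hVT _ (hY.le h3) (hcm w (hWJ Y hY hwY)))).symm
  refine mem_ul.2 ⟨hD h2, fun g hg => ?_⟩
  exact comm_of_cm (hVT _ (h.pl.XV_act (mem_xs.1 hg).1 (hD h2)) (hcm g (hxJ hg)))

end

/-! ### the commutators -/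

/-- `⟨[W_X, W_Y]⟩` -/
def cw (V Z : Subgroup G) : Subgroup G :=
  _root_.Subgroup.closure {d | ∃ X Y, Pnt V Z X ∧ Pnt V Z Y ∧ ∃ a ∈ ws V X, ∃ b ∈ ws V Y, d = a * b * a⁻¹ * b⁻¹}

section

variable [Finite G] {S : Sylow 2 G} {B P V Z : Subgroup G} (h : One S B P V Z)
include h

theorem cw_le : cw V Z ≤ IV V Z := by
  refine (closure_le _).2 ?_
  rintro _ ⟨X, Y, hX, hY, a, ha, b, hb, rfl⟩
  by_cases hXY : X = Y
  · subst hXY
    have e : a * b * a⁻¹ * b⁻¹ = 1 := by rw [h.comm_W hX.cj ha hb]; group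
    rw [e]; exact one_mem _
  · exact h.comm_mem hX hY hXY ha hb

theorem cw_conj {g d : G} (hg : g ∈ normalizer (V : Set G)) (hd : d ∈ cw V Z) : g * d * g⁻¹ ∈ cw V Z := by
  refine closure_induction (p := fun d _ => g * d * g⁻¹ ∈ cw V Z) ?_ ?_ ?_ ?_ hd
  · rintro _ ⟨X, Y, hX, hY, a, ha, b, hb, rfl⟩
    refine subset_closure ⟨cj g X, cj g Y, hX.conj hg, hY.conj hg, g * a * g⁻¹, ?_, g * b * g⁻¹, ?_, by group⟩
    · rw [ws_cj]; exact conj_mem_cj ha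
    · rw [ws_cj]; exact conj_mem_cj hb
  · simp
  · intro a b _ _ ha hb
    have e : g * (a * b) * g⁻¹ = (g * a * g⁻¹) * (g * b * g⁻¹) := by group
    rw [e]; exact mul_mem ha hb
  · intro a _ ha
    have e : g * a⁻¹ * g⁻¹ = (g * a * g⁻¹)⁻¹ := by group
    rw [e]; exact inv_mem ha

/-- `V ≤ ⟨[W_X, W_Y]⟩` -/
theorem V_le_cw : V ≤ cw V Z := by
  have hne : V ⊓ cw V Z ≠ ⊥ := by
    intro e
    obtain ⟨Y, hY, hYZ⟩ := h.exists_ne h.self
    apply h.not_comm h.self hY hYZ.symm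
    intro a ha
    rw [mem_centralizer_iff]
    intro b hb
    have hc : a * b * a⁻¹ * b⁻¹ ∈ cw V Z := subset_closure ⟨Z, Y, h.self, hY, a, ha, b, hb, rfl⟩
    refine (comm_of_cm (h.pl.cent_IV h.hf (cw_le h hc) fun g hg => ?_)).symm
    have h1 := h.pl.XV_act hg (cw_le h hc)
    have h2 : g * (a * b * a⁻¹ * b⁻¹) * g⁻¹ * (a * b * a⁻¹ * b⁻¹)⁻¹ ∈ V ⊓ cw V Z :=
      ⟨h1, (cw V Z).mul_mem (cw_conj h (h.pl.XV_le_N hg) hc) ((cw V Z).inv_mem hc)⟩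
    rw [e, mem_bot] at h2
    exact comm_of_cm h2
  have h1 : V ⊓ cw V Z = V := by
    refine h.pl.irr h.hf inf_le_left (fun g hg d hd => ?_) hne
    exact ⟨conj_mem (h.pl.XV_le_N hg) hd.1, cw_conj h (h.pl.XV_le_N hg) hd.2⟩
  calc V = V ⊓ cw V Z := h1.symm
    _ ≤ cw V Z := inf_le_right

variable {u : G} (hu : u ∈ IV V Z) (huV : u ∉ V)
include hu huV

/-- Case (a) of ALPHA -/
theorem alpha_a (hG : IsCharacteristicTwoType G) (hD : dd V Z Z ≤ IV V Z) {U : Subgroup G} (hUl : U ≤ ul V Z u)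
    (huU : u ∈ U) (hWQ : ∀ w ∈ ws V Z, w ∈ o2 (centralizer (U : Set G)) → w ∈ U)
    (hnp : ∀ N p, IsCj V N → Z ≤ N → IsCj Z p → p ≤ N → u ∉ p) : False := by
  classical
  set J := centralizer (U : Set G) with hJ
  set Q := o2 J with hQdef
  have hQJ : Q ≤ J := o2_le _
  have hQp : IsPGroup 2 Q := o2_isPGroup _
  have hQn : J ≤ normalizer (Q : Set G) := le_normalizer_o2 _
  have hUc : ∀ t ∈ U, ∀ j ∈ J, j * t = t * j := fun t ht j hj => (mem_centralizer_iff.1 hj t ht).symm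
  have hUI : U ≤ IV V Z := fun t ht => (mem_ul.1 (hUl ht)).1
  have hxJ : xs V Z u ≤ J := fun g hg => mem_centralizer_iff.2 fun t ht => ((mem_ul.1 (hUl ht)).2 g hg).symm
  have hWJ : ∀ X, Pnt V Z X → ws V X ≤ J := fun X hX w hw =>
    mem_centralizer_iff.2 fun t ht => h.I_comm_W hX (hUI ht) hw
  have hVJ : V ≤ J := (h.V_le_W h.self).trans (hWJ Z h.self)
  have hu1 : u ≠ 1 := fun e => huV (e ▸ one_mem V)
  have hVU : ∀ v ∈ V, v ∈ U → v = 1 := fun v hv hvU => ul_inf h hu huV hv (hUl hvU)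
  -- all points of `V`
  have hWQ' : ∀ X, Pnt V Z X → ∀ w ∈ ws V X, w ∈ Q → w ∈ U := by
    intro X hX w hw hwQ
    obtain ⟨g, hg, hgX⟩ := trans h hu huV hX h.self
    have hgJ := hxJ hg
    have h1 : g * w * g⁻¹ ∈ ws V Z := by
      rw [← hgX, ws_cj]; exact conj_mem_cj hw
    have h2 := hWQ _ h1 (conj_mem (hQn hgJ) hwQ)
    have h3 : w = g⁻¹ * (g * w * g⁻¹) * g := by group
    have h4 := hUc _ h2 g⁻¹ (inv_mem hgJ)
    rw [h3, h4, inv_mul_cancel_right]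
    exact h2
  have hVQ : ∀ v ∈ V, v ∈ Q → v = 1 := fun v hv hvQ => hVU v hv (hWQ v (h.V_le_W h.self hv) hvQ)
  -- `Q ∩ N_G(V) ≤ C_G(V)`
  have hQ0 : ∀ a ∈ Q, a ∈ normalizer (V : Set G) → a ∈ centralizer (V : Set G) := by
    intro a haQ haN
    rw [mem_centralizer_iff]
    intro v hv
    have h1 : a * v * a⁻¹ * v⁻¹ ∈ V := mul_mem (conj_mem haN hv) (inv_mem hv)
    have h2 : a * v * a⁻¹ * v⁻¹ ∈ Q := by
      have e : a * v * a⁻¹ * v⁻¹ = a * (v * a⁻¹ * v⁻¹) := by group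
      rw [e]
      exact mul_mem haQ (conj_mem (hQn (hVJ hv)) (inv_mem haQ))
    exact (comm_of_cm (hVQ _ h1 h2)).symm
  -- `[Q ∩ N_G(V), W_X] ≤ U`
  have hQ1 : ∀ a ∈ Q, a ∈ normalizer (V : Set G) → ∀ X, Pnt V Z X → ∀ w ∈ ws V X, a * w * a⁻¹ * w⁻¹ ∈ U := by
    intro a haQ haN X hX w hw
    refine hWQ' X hX _ ?_ ?_
    · exact mul_mem (conj_mem (h.cent_norm_W hX (hQ0 a haQ haN)) hw) (inv_mem hw)
    · have e : a * w * a⁻¹ * w⁻¹ = a * (w * a⁻¹ * w⁻¹) := by group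
      rw [e]
      exact mul_mem haQ (conj_mem (hQn (hWJ X hX hw)) (inv_mem haQ))
  have hU2 : IsPGroup 2 U := by
    rintro ⟨t, ht⟩
    refine ⟨1, Subtype.ext ?_⟩
    show t ^ 2 ^ 1 = 1
    rw [pow_one, pow_two]
    exact h.I_sq (hUI ht)
  have hUne : U ≠ ⊥ := fun e => hu1 (by rw [e, mem_bot] at huU; exact huU)
  -- `Q` does not normalise `V`
  have hQV : ¬ Q ≤ normalizer (V : Set G) := by
    intro hle
    obtain ⟨z, hz, hz1⟩ := h.pl.pt_ne_bot h.pl.isCj_self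
    apply hz1
    refine hVQ z (h.pl.ZV hz) ?_
    refine le_o2_of_cent hG hU2 hUne hVJ (fun v hv q hq => ?_) (h.pl.ZV hz)
    exact mem_centralizer_iff.1 (hQ0 q hq (hle hq)) v hv
  -- `F = ⟨W_X⟩`
  set F : Subgroup G := sSup {W | ∃ X, Pnt V Z X ∧ W = ws V X} with hF
  have hWF : ∀ {X}, Pnt V Z X → ws V X ≤ F := fun {X} hX => le_sSup ⟨X, hX, rfl⟩
  have hFC : F ≤ centralizer (V : Set G) := sSup_le (by rintro _ ⟨X, hX, rfl⟩; exact h.W_le_cent hX)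
  have hFJ : F ≤ J := sSup_le (by rintro _ ⟨X, hX, rfl⟩; exact hWJ X hX)
  have hFB : F ≤ B := sSup_le (by rintro _ ⟨X, hX, rfl⟩; exact h.W_le_B hX)
  have hF2 : IsPGroup 2 F := h.isP_B.to_le hFB
  set R₀ : Subgroup G := (Q ⊓ normalizer (V : Set G)) ⊔ F with hR₀
  have hR₀N : R₀ ≤ normalizer (V : Set G) := sup_le inf_le_right (hFC.trans (centralizer_le_normalizer _))
  have hA2 : IsPGroup 2 ↥(Q ⊔ F) := hQp.to_sup_of_normal_left' hF2 (hFJ.trans hQn)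
  have hR₀A : R₀ ≤ Q ⊔ F := sup_le (inf_le_left.trans le_sup_left) le_sup_right
  obtain ⟨x, hx, hxR, hxn⟩ := exists_norm_of_lt hA2 hR₀A fun hle => hQV (le_sup_left.trans (hle.trans hR₀N))
  obtain ⟨f, hf, k, hk, hxe⟩ := mem_sup_norm (hFJ.trans hQn) (show x ∈ F ⊔ Q by rwa [sup_comm])
  have hFR : F ≤ R₀ := le_sup_right
  have hkn : k ∈ normalizer (R₀ : Set G) := by
    have e : k = f⁻¹ * x := by rw [hxe]; group
    rw [e]
    exact mul_mem (inv_mem (Subgroup.le_normalizer (hFR hf))) hxn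
  have hkV : k ∉ normalizer (V : Set G) := fun hc => hxR (by
    rw [hxe]
    exact mul_mem (hFR hf) (le_sup_left (a := Q ⊓ normalizer (V : Set G)) ⟨hk, hc⟩))
  have hkJ := hQJ hk
  have hcomk : ∀ w ∈ F, k * w * k⁻¹ * w⁻¹ ∈ Q ∧ k * w * k⁻¹ * w⁻¹ ∈ normalizer (V : Set G) := by
    intro w hw
    constructor
    · have e : k * w * k⁻¹ * w⁻¹ = k * (w * k⁻¹ * w⁻¹) := by group
      rw [e]
      exact mul_mem hk (conj_mem (hQn (hFJ hw)) (inv_mem hk))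
    · exact hR₀N (mul_mem (conj_mem hkn (hFR hw)) (inv_mem (hFR hw)))
  have hcomk' : ∀ w ∈ F, k⁻¹ * w * k * w⁻¹ ∈ Q ∧ k⁻¹ * w * k * w⁻¹ ∈ normalizer (V : Set G) := by
    intro w hw
    constructor
    · have e : k⁻¹ * w * k * w⁻¹ = k⁻¹ * (w * k * w⁻¹) := by group
      rw [e]
      exact mul_mem (inv_mem hk) (conj_mem (hQn (hFJ hw)) hk)
    · exact hR₀N (mul_mem (conj_mem' hkn (hFR hw)) (inv_mem (hFR hw)))
  -- work in `J / U`
  have hUJ : U ≤ J := fun t ht => mem_centralizer_iff.2 fun s hs => h.pl.IV_comm (hUI hs) (hUI ht)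
  have hZn : (U.subgroupOf J).Normal := by
    refine ⟨fun a ha b => ?_⟩
    rw [mem_subgroupOf] at ha ⊢
    change (b : G) * a * (b : G)⁻¹ ∈ U
    rw [hUc _ ha b b.2, mul_inv_cancel_right]
    exact ha
  let π : J →* J ⧸ U.subgroupOf J := QuotientGroup.mk' _
  have hπ : ∀ x : J, π x = 1 ↔ (x : G) ∈ U := fun x => by
    rw [QuotientGroup.mk'_apply, QuotientGroup.eq_one_iff, mem_subgroupOf]
  have hπc : ∀ a b : J, (a : G) * b * (a : G)⁻¹ * (b : G)⁻¹ ∈ U → Commute (π a) (π b) := by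
    intro a b hab
    have h1 : π (a * b * a⁻¹ * b⁻¹) = 1 := by
      rw [hπ]
      exact hab
    rw [map_mul, map_mul, map_mul, map_inv, map_inv] at h1
    change π a * π b = π b * π a
    calc π a * π b = (π a * π b * (π a)⁻¹ * (π b)⁻¹) * (π b * π a) := by group
      _ = π b * π a := by rw [h1, one_mul]
  have hcomm : ∀ X Y, Pnt V Z X → Pnt V Z Y → ∀ a ∈ ws V X, ∀ b ∈ ws V Y,
      k * (a * b * a⁻¹ * b⁻¹) * k⁻¹ * (a * b * a⁻¹ * b⁻¹)⁻¹ ∈ U := by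
    intro X Y hX hY a ha b hb
    have haF : a ∈ F := hWF hX ha
    have hbF : b ∈ F := hWF hY hb
    have haJ := hFJ haF
    have hbJ := hFJ hbF
    let K' : J := ⟨k, hkJ⟩
    let A' : J := ⟨a, haJ⟩
    let B' : J := ⟨b, hbJ⟩
    have c1 := hcomk a haF
    have c2 := hcomk b hbF
    have c3 := hcomk' a haF
    have g1 : Commute (π K' * π A' * (π K')⁻¹ * (π A')⁻¹) (π A') := by
      have := hπc (K' * A' * K'⁻¹ * A'⁻¹) A' (hQ1 _ c1.1 c1.2 X hX a ha)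
      rwa [map_mul, map_mul, map_mul, map_inv, map_inv] at this
    have g2 : Commute (π K' * π A' * (π K')⁻¹ * (π A')⁻¹) (π B') := by
      have := hπc (K' * A' * K'⁻¹ * A'⁻¹) B' (hQ1 _ c1.1 c1.2 Y hY b hb)
      rwa [map_mul, map_mul, map_mul, map_inv, map_inv] at this
    have g3 : Commute (π K' * π B' * (π K')⁻¹ * (π B')⁻¹) (π A') := by
      have := hπc (K' * B' * K'⁻¹ * B'⁻¹) A' (hQ1 _ c2.1 c2.2 X hX a ha)
      rwa [map_mul, map_mul, map_mul, map_inv, map_inv] at this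
    have g4 : Commute (π K' * π B' * (π K')⁻¹ * (π B')⁻¹) (π B') := by
      have := hπc (K' * B' * K'⁻¹ * B'⁻¹) B' (hQ1 _ c2.1 c2.2 Y hY b hb)
      rwa [map_mul, map_mul, map_mul, map_inv, map_inv] at this
    have g5 : Commute ((π K')⁻¹ * π A' * π K' * (π A')⁻¹) (π B') := by
      have := hπc (K'⁻¹ * A' * K' * A'⁻¹) B' (hQ1 _ c3.1 c3.2 Y hY b hb)
      rwa [map_mul, map_mul, map_mul, map_inv, map_inv] at this
    have g6 := three_sub g1 g2 g3 g4 g5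
    have g7 : π (K' * (A' * B' * A'⁻¹ * B'⁻¹) * K'⁻¹ * (A' * B' * A'⁻¹ * B'⁻¹)⁻¹) = 1 := by
      simp only [map_mul, map_inv]
      rw [g6, mul_inv_cancel]
    exact (hπ _).mp g7
  -- `[k, v] ∈ U` for `v ∈ V`
  have hkv : ∀ v ∈ V, k * v * k⁻¹ * v⁻¹ ∈ U := by
    let C : Subgroup G :=
      { carrier := {v | v ∈ J ∧ k * v * k⁻¹ * v⁻¹ ∈ U}
        mul_mem' := by
          rintro a b ⟨ha, ha1⟩ ⟨hb, hb1⟩
          refine ⟨mul_mem ha hb, ?_⟩
          have e : k * (a * b) * k⁻¹ * (a * b)⁻¹ = (k * a * k⁻¹ * a⁻¹) * (a * (k * b * k⁻¹ * b⁻¹) * a⁻¹) := by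
            group
          rw [e, conj_of_comm (hUc _ hb1 a ha)]
          exact mul_mem ha1 hb1
        one_mem' := ⟨one_mem _, by simp⟩
        inv_mem' := by
          rintro a ⟨ha, ha1⟩
          refine ⟨inv_mem ha, ?_⟩
          have e : k * a⁻¹ * k⁻¹ * a⁻¹⁻¹ = a⁻¹ * (k * a * k⁻¹ * a⁻¹)⁻¹ * a⁻¹⁻¹ := by group
          rw [e, conj_of_comm (hUc _ (inv_mem ha1) a⁻¹ (inv_mem ha))]
          exact inv_mem ha1 }
    have hle : cw V Z ≤ C := by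
      refine (closure_le _).2 ?_
      rintro _ ⟨X, Y, hX, hY, a, ha, b, hb, rfl⟩
      refine ⟨?_, hcomm X Y hX hY a ha b hb⟩
      have haJ := hWJ X hX ha
      have hbJ := hWJ Y hY hb
      exact mul_mem (mul_mem (mul_mem haJ hbJ) (inv_mem haJ)) (inv_mem hbJ)
    exact fun v hv => (hle (V_le_cw h hv)).2
  -- the map `v ↦ [k, v]`
  let φ : V →* U :=
    { toFun := fun v => ⟨k * v * k⁻¹ * (v : G)⁻¹, hkv v v.2⟩
      map_one' := by
        apply Subtype.ext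
        show k * 1 * k⁻¹ * (1 : G)⁻¹ = 1
        group
      map_mul' := by
        rintro ⟨a, ha⟩ ⟨b, hb⟩
        apply Subtype.ext
        show k * (a * b) * k⁻¹ * (a * b)⁻¹ = k * a * k⁻¹ * a⁻¹ * (k * b * k⁻¹ * b⁻¹)
        have e : k * (a * b) * k⁻¹ * (a * b)⁻¹ = (k * a * k⁻¹ * a⁻¹) * (a * (k * b * k⁻¹ * b⁻¹) * a⁻¹) := by group
        rw [e, conj_of_comm (hUc _ (hkv b hb) a (hVJ ha))] }
  obtain ⟨v₀, hv₀, hv₀1, hkv₀⟩ : ∃ v ∈ V, v ≠ 1 ∧ k * v = v * k := by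
    have hni : ¬ Function.Injective φ := by
      intro hi
      have h1 := Nat.card_le_card_of_injective φ hi
      have h2 : Nat.card U ≤ Nat.card Z := (Subgroup.card_le_of_le hUl).trans (ul_card h hu huV)
      have h3 := h.pl.one_lt_card
      have h4 := h.pl.card
      rw [h4] at h1
      nlinarith only [h1, h2, h3]
    rw [injective_iff_map_eq_one] at hni
    push Not at hni
    obtain ⟨⟨v, hv⟩, hφ, hne⟩ := hni
    exact ⟨v, hv, fun e => hne (Subtype.ext e), comm_of_cm (congrArg Subtype.val hφ)⟩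
  obtain ⟨X, hX, hXV, hvX⟩ := h.pl.exists_point hv₀ hv₀1
  have hkX : cj k X = X := cj_eq_iff.2 (h.pl.norm_of_comm hX hvX hv₀1 hkv₀)
  set L' := cj k V with hL'
  have hXL : X ≤ L' := by rw [← hkX]; exact cj_le_cj.2 hXV
  have hLV : L' ≠ V := fun e => hkV (cj_eq_iff.1 e)
  have hLI : L' ≤ IV V Z := by
    intro w hw
    rw [hL', mem_cj] at hw
    have e : w = (k * (k⁻¹ * w * k) * k⁻¹ * (k⁻¹ * w * k)⁻¹) * (k⁻¹ * w * k) := by group
    rw [e]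
    exact mul_mem (hUI (hkv _ hw)) (h.pl.V_le_IV hw)
  obtain ⟨v₁, hv₁, hv₁k⟩ : ∃ v ∈ V, k * v * k⁻¹ * v⁻¹ ≠ 1 := by
    by_contra hcon
    push Not at hcon
    apply hkV
    refine centralizer_le_normalizer _ (mem_centralizer_iff.2 fun v hv => ?_)
    exact (comm_of_cm (hcon v hv)).symm
  obtain ⟨T, C', h'⟩ := h.pt ⟨hX, hXV⟩
  have hpl := h'.plg_of (L := L') ⟨k, rfl⟩ hXL hLV (by rw [IV_of hX]; exact hLI)
  have hcj : ∀ {Y : Subgroup G}, IsCj X Y ↔ IsCj Z Y := by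
    intro Y
    obtain ⟨g, rfl⟩ := hX
    exact isCj_cj
  set c := k * v₁ * k⁻¹ * v₁⁻¹ with hc
  have hcQ : c ∈ V ⊔ L' := by
    rw [hc]
    refine mul_mem ((le_sup_right : L' ≤ V ⊔ L') ?_) ((le_sup_left : V ≤ V ⊔ L') (inv_mem hv₁))
    exact conj_mem_cj hv₁
  obtain ⟨p, hp, hpQ, hcp⟩ := hpl.cov c hcQ hv₁k
  have hcU : c ∈ ul V Z u := hUl (hkv v₁ hv₁)
  have hpZ : Z ≠ p := by
    rintro rfl
    exact hv₁k (ul_inf h hu huV (h.pl.ZV hcp) hcU)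
  obtain ⟨N, hN, hNQ, hZN, hpN⟩ := hpl.col Z p (hcj.2 h.pl.isCj_self) hp (h.pl.ZV.trans le_sup_left) hpQ hpZ
  exact hnp N p hN hZN (hcj.1 hp) hpN (mem_pt h hu huV hD hN hZN (hcj.1 hp) hpN hcU hv₁k hcp)

end

end Cfsg.Agent.Omega.NO3S.OneQ.Alpha

end

section


/-!
# NO-3S, `OneQ`, critical distance 1: THEOREM ALPHA for `q ≥ 4` (bb OMEGA #19637 (B))

`h : One S B P V Z`, `hG` : characteristic 2 type, `hD : dd V Z Z ≤ IV V Z` (`D_x = I`),
`hw : w1 V Z Z ≤ ee V Z Z` (duality: `C_{W_Z}(E_Y) ≤ E_Z`), `L` a line on `Z`, `u ∈ I_V ∩ I_L`, `u ∉ Z`, `q ∈ L`: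

* `One.alpha_core` : `g ∈ X_V`, `g u = u g` ==> `q` commutes with `g q g⁻¹`;
* `Co.alpha` : `g ∈ X_V`, `Z^g ≠ Z` ==> `[q, g q g⁻¹] ∈ Z`; `Co.alpha_cj` the same for `L = cj c V`, `c ∈ C_G(Z)`.
-/

set_option autoImplicit false
set_option linter.unusedSectionVars false

namespace Cfsg.Agent.Omega.NO3S.OneQ

open Subgroup Cfsg Cfsg.Agent.Omega.NO3S.PT Cfsg.Agent.Omega.NoFF.Basic
open Cfsg.Agent.ZN (o2)
open Cfsg.Agent.ZN.Block (le_o2 o2_le o2_isPGroup le_normalizer_o2)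
open Cfsg.Agent.Omega.NO3S.OneQ.Alpha
open scoped Pointwise commutatorElement

variable {G : Type*} [Group G]

namespace Alpha

theorem isCj_line {V L M : Subgroup G} (hL : IsCj V L) (hM : IsCj V M) : IsCj L M := by
  obtain ⟨a, rfl⟩ := hL
  exact isCj_cj.2 hM

theorem isCj_line' {V L M : Subgroup G} (hL : IsCj V L) (hM : IsCj L M) : IsCj V M := by
  obtain ⟨a, rfl⟩ := hL
  exact isCj_cj.1 hM

/-- `⟨Z^J⟩` -/
def nu (J Z : Subgroup G) : Subgroup G := _root_.Subgroup.closure {a | ∃ c ∈ J, ∃ z ∈ Z, a = c * z * c⁻¹}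

theorem nu_conj {J Z : Subgroup G} {c a : G} (hc : c ∈ J) (ha : a ∈ nu J Z) : c * a * c⁻¹ ∈ nu J Z := by
  refine closure_induction (p := fun a _ => c * a * c⁻¹ ∈ nu J Z) ?_ ?_ ?_ ?_ ha
  · rintro _ ⟨d, hd, z, hz, rfl⟩
    exact subset_closure ⟨c * d, mul_mem hc hd, z, hz, by group⟩
  · simp
  · intro a b _ _ ha hb
    have e : c * (a * b) * c⁻¹ = (c * a * c⁻¹) * (c * b * c⁻¹) := by group
    rw [e]; exact mul_mem ha hb
  · intro a _ ha
    have e : c * a⁻¹ * c⁻¹ = (c * a * c⁻¹)⁻¹ := by group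
    rw [e]; exact inv_mem ha

theorem le_nu {J Z : Subgroup G} : Z ≤ nu J Z := fun z hz => subset_closure ⟨1, one_mem _, z, hz, by simp⟩

theorem nu_le {J Z N : Subgroup G} (hZ : Z ≤ N) (hJ : J ≤ normalizer (N : Set G)) : nu J Z ≤ N := by
  refine (closure_le _).2 ?_
  rintro _ ⟨c, hc, z, hz, rfl⟩
  exact conj_mem (hJ hc) (hZ hz)

theorem comm_norm {N J : Subgroup G} (h : J ≤ normalizer (N : Set G)) :
    J ≤ normalizer ((⁅N, N⁆ : Subgroup G) : Set G) := by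
  have key : ∀ c ∈ J, ⁅N, N⁆ ≤ cj c ⁅N, N⁆ := by
    intro c hc
    rw [commutator_le]
    intro x hx y hy
    rw [mem_cj]
    have e1 : c⁻¹ * ⁅x, y⁆ * c = ⁅c⁻¹ * x * c, c⁻¹ * y * c⁆ := by
      simp only [commutatorElement_def]; group
    rw [e1]
    exact commutator_mem_commutator (conj_mem' (h hc) hx) (conj_mem' (h hc) hy)
  intro c hc
  rw [← cj_eq_iff]
  refine le_antisymm ?_ (key c hc)
  rw [cj_le_iff]
  exact key c⁻¹ (inv_mem hc)

/-- `⟨Z^J⟩ ≤ Q` a 2-group, `Z ≠ 1`: `Z` is not in `⟨Z^J⟩'` -/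
theorem not_le_comm [Finite G] {J Z Q : Subgroup G} (hne : Z ≠ ⊥) (hQ : IsPGroup 2 Q) (hZQ : Z ≤ Q)
    (hJQ : J ≤ normalizer (Q : Set G)) : ¬ Z ≤ ⁅nu J Z, nu J Z⁆ := by
  intro hle
  set N := nu J Z with hNdef
  have hN2 : IsPGroup 2 N := hQ.to_le (nu_le hZQ hJQ)
  have hle' : N ≤ ⁅N, N⁆ := by
    refine nu_le hle (comm_norm ?_)
    intro c hc
    rw [← cj_eq_iff]
    refine le_antisymm ?_ ?_
    · rw [cj_le_iff]
      intro a ha
      rw [mem_cj, inv_inv]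
      exact nu_conj hc ha
    · intro a ha
      rw [mem_cj]
      have := nu_conj (inv_mem hc) ha
      rwa [inv_inv] at this
  have : Fact (Nat.Prime 2) := ⟨Nat.prime_two⟩
  have hnil : Group.IsNilpotent N := hN2.isNilpotent
  have hsol : Group.IsSolvable N := inferInstance
  have h1 : commutator N = ⊤ := by
    rw [eq_top_iff]
    intro x _
    have h2 : (x : G) ∈ ⁅N, N⁆ := hle' x.2
    have h3 : (commutator N).map N.subtype = ⁅N, N⁆ := by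
      rw [_root_.commutator_def, map_commutator, ← MonoidHom.range_eq_map, range_subtype]
    rw [← h3] at h2
    obtain ⟨x', hx', e1⟩ := h2
    have : x' = x := Subtype.ext e1
    rwa [← this]
  have h4 : Subsingleton N := by
    by_contra hns
    rw [not_subsingleton_iff_nontrivial] at hns
    exact (Group.IsSolvable.commutator_lt_top_of_nontrivial N).ne h1
  apply hne
  rw [eq_bot_iff]
  intro z hz
  have h5 : (⟨z, le_nu hz⟩ : N) = 1 := Subsingleton.elim _ _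
  exact (mem_bot).2 (congrArg Subtype.val h5)

end Alpha

/-- the assumptions of ALPHA -/
structure HA (V Z : Subgroup G) : Prop where
  hD : dd V Z Z ≤ IV V Z
  hw : w1 V Z Z ≤ ee V Z Z

theorem HA.line [Finite G] {S : Sylow 2 G} {B P V Z L : Subgroup G} (h : One S B P V Z) (ha : HA V Z) (hL : IsCj V L)
    (hZL : Z ≤ L) : HA L Z := by
  obtain ⟨g, hgZ, rfl⟩ := PB.Geom.exists_conj_flag h.pl h.pl.isCj_self hL hZL
  have hZ' : PT.cj g⁻¹ Z = Z := by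
    nth_rewrite 1 [hgZ]
    rw [cj_cj, inv_mul_cancel, cj_one]
  constructor
  · have h1 := (cj_le_cj (g := g)).2 ha.hD
    rw [cj_conj_dd, ← PB.Geom.IV_conj h.pl h.hf g, ← hgZ] at h1
    exact h1
  · intro w hw
    have h1 : g⁻¹ * w * g ∈ w1 V Z Z := by
      rw [mem_w1] at hw ⊢
      refine ⟨?_, fun Y hY hYZ => ?_⟩
      · have h2 := hw.1
        rw [ws_cj_left, hgZ, ws_cj, mem_cj] at h2
        exact h2
      · have h3 := hw.2 (PT.cj g Y) ⟨hY.cj.cj g, cj_le_cj.2 hY.le⟩ (fun e => hYZ (by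
          rw [hgZ] at e
          exact cj_inj.1 e))
        rw [← cj_conj_ee, ← cj_centralizer, mem_cj] at h3
        exact h3
    have h2 := conj_mem_cj (g := g) (ha.hw h1)
    rw [cj_conj_ee, ← hgZ] at h2
    have e : g * (g⁻¹ * w * g) * g⁻¹ = w := by group
    rwa [e] at h2

namespace One

variable [Finite G] {S : Sylow 2 G} {B P V Z : Subgroup G} (h : One S B P V Z)
include h

/-- `L ≤ I_V` implies `V ≤ I_L` -/
theorem coplanar {L : Subgroup G} (hL : IsCj V L) (hZL : Z ≤ L) (hLV : L ≠ V) (hLI : L ≤ IV V Z) : V ≤ IV L Z := by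
  have hp := h.plg_of hL hZL hLV hLI
  refine le_sInf ?_
  rintro _ ⟨Y, hY, hYM, rfl⟩
  rw [ws_line hL]
  exact le_sup_left.trans (hp.leW Y hY (hYM.trans le_sup_right))

/-- a point containing `u` collinear with `Z` -/
theorem alpha_pt {L : Subgroup G} (hL : IsCj V L) (hZL : Z ≤ L) {u : G} (hu' : u ∈ IV L Z)
    {N p : Subgroup G} (hN : IsCj V N) (hZN : Z ≤ N) (hp : IsCj Z p) (hpN : p ≤ N) (hup : u ∈ p) (hu1 : u ≠ 1)
    {q g : G} (hq : q ∈ L) (hgu : g * u = u * g) : q * (g * q * g⁻¹) = g * q * g⁻¹ * q := by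
  have hZp : Z ≤ ws V p := hZN.trans (h.line_le_ws hN hpN)
  have hnorm : ∀ {g : G}, g * u = u * g → g ∈ normalizer ((ws V p : Subgroup G) : Set G) := fun {g} hg =>
    normalizer_le_ws V p (h.pl.norm_of_comm hp hup hu1 hg)
  have hLp : L ≤ ws V p := by
    by_cases huL : u ∈ L
    · exact h.line_le_ws hL (Pla.pt_le h hL hp hup hu1 huL)
    · obtain ⟨S', C', Q', h'⟩ := h.flag hL h.pl.isCj_self hZL
      intro l hl
      by_cases hl1 : l = 1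
      · rw [hl1]; exact one_mem _
      obtain ⟨X, hX, hXL, hlX⟩ := h.line_pt hL hl hl1
      obtain ⟨x, hx, hxX⟩ := Alpha.trans h' hu' huL h'.self (⟨hX, hXL⟩ : Pnt L Z X)
      have h1 : PT.cj x Z ≤ PT.cj x (ws V p) := cj_le_cj.2 hZp
      rw [hxX, cj_eq_iff.2 (hnorm (mem_xs.1 hx).2)] at h1
      exact h1 hlX
  exact h.comm_W hp (hLp hq) (conj_mem (hnorm hgu) (hLp hq))

/-- **THEOREM ALPHA**, `g` centralises `u` -/
theorem alpha_core (hG : IsCharacteristicTwoType G) (ha : HA V Z) {L : Subgroup G} (hL : IsCj V L) (hZL : Z ≤ L)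
    {u : G} (hu : u ∈ IV V Z) (hu' : u ∈ IV L Z) (huZ : u ∉ Z) {q g : G} (hq : q ∈ L) (hg : g ∈ XV V Z)
    (hgu : g * u = u * g) : q * (g * q * g⁻¹) = g * q * g⁻¹ * q := by
  classical
  have hVV : IsCj V V := ⟨1, (cj_one V).symm⟩
  have hu1 : u ≠ 1 := fun e => huZ (e ▸ one_mem Z)
  by_cases hLV : L = V
  · subst hLV
    exact h.pl.Vcomm hq (conj_mem (h.pl.XV_le_N hg) hq)
  -- coplanar
  have hcop : L ≤ IV V Z → q * (g * q * g⁻¹) = g * q * g⁻¹ * q := fun hLI =>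
    h.pl.IV_comm (hLI hq) (conj_mem (normalizer_le_IV V Z (h.pl.XV_le_N hg)) (hLI hq))
  obtain ⟨S', C', P', h'⟩ := h.flag hL h.pl.isCj_self hZL
  have ha' : HA L Z := ha.line h hL hZL
  by_cases huL : u ∈ L
  · exact hcop (line_le h ha.hD hL hZL huL huZ hu)
  by_cases huV : u ∈ V
  · have hVL : IsCj L V := by
      obtain ⟨a, rfl⟩ := hL
      exact isCj_cj.2 hVV
    have h1 : V ≤ IV L Z := line_le h' ha'.hD hVL h.pl.ZV huV huZ hu'
    have h2 := h'.coplanar hVL h.pl.ZV (Ne.symm hLV) h1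
    exact hcop h2
  -- no point collinear with `Z` contains `u`
  by_contra hne
  have hnp : ∀ N p, IsCj V N → Z ≤ N → IsCj Z p → p ≤ N → u ∉ p := fun N p hN hZN hp hpN hup =>
    hne (h.alpha_pt hL hZL hu' hN hZN hp hpN hup hu1 hq hgu)
  set U : Subgroup G := ul V Z u ⊓ ul L Z u with hU
  have hUV : U ≤ ul V Z u := inf_le_left
  have hUL : U ≤ ul L Z u := inf_le_right
  have huU : u ∈ U := ⟨self_mem_ul hu, self_mem_ul hu'⟩
  set J := centralizer (U : Set G) with hJ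
  have hxJ : xs V Z u ≤ J := fun g hg => mem_centralizer_iff.2 fun t ht => ((mem_ul.1 (hUV ht)).2 g hg).symm
  have hxJ' : xs L Z u ≤ J := fun g hg => mem_centralizer_iff.2 fun t ht => ((mem_ul.1 (hUL ht)).2 g hg).symm
  have hWJ : ∀ X, Pnt V Z X → ws V X ≤ J := fun X hX w hw =>
    mem_centralizer_iff.2 fun t ht => h.I_comm_W hX (mem_ul.1 (hUV ht)).1 hw
  have hWJ' : ∀ X, Pnt L Z X → ws L X ≤ J := fun X hX w hw =>
    mem_centralizer_iff.2 fun t ht => h'.I_comm_W hX (mem_ul.1 (hUL ht)).1 hw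
  -- `W_Z ∩ Θ ≤ U`
  have hinf : ∀ T : Subgroup G, J ≤ normalizer (T : Set G) → (∀ z ∈ Z, z ∈ T → z = 1) → ∀ r ∈ ws V Z, r ∈ T → r ∈ U := by
    intro T hT hZT r hr hrT
    exact ⟨inf_ul h hu huV ha.hD ha.hw hxJ hWJ hT hZT hr hrT,
      inf_ul h' hu' huL ha'.hD ha'.hw hxJ' hWJ' hT hZT (by rw [ws_line hL]; exact hr) hrT⟩
  -- all or nothing
  have hall : ∀ T : Subgroup G, J ≤ normalizer (T : Set G) → Z ≤ T ∨ ∀ z ∈ Z, z ∈ T → z = 1 := by
    intro T hT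
    by_contra hcon
    push Not at hcon
    obtain ⟨h1, z, hz, hzT, hz1⟩ := hcon
    exact h1 (h.pl.ZV.trans (V_le_of h hu huV (fun g hg d hd => conj_mem (hT (hxJ hg)) hd) (h.pl.ZV hz) hz1 hzT))
  have hVle : ∀ T : Subgroup G, J ≤ normalizer (T : Set G) → Z ≤ T → V ≤ T ∧ L ≤ T := by
    intro T hT hZT
    obtain ⟨z, hz, hz1⟩ := h.pl.pt_ne_bot h.pl.isCj_self
    exact ⟨V_le_of h hu huV (fun g hg d hd => conj_mem (hT (hxJ hg)) hd) (h.pl.ZV hz) hz1 (hZT hz),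
      V_le_of h' hu' huL (fun g hg d hd => conj_mem (hT (hxJ' hg)) hd) (hZL hz) hz1 (hZT hz)⟩
  -- `Z ≤ O₂(J)`
  have hZQ : Z ≤ o2 J := by
    rcases hall (o2 J) (le_normalizer_o2 J) with h1 | h1
    · exact h1
    · exact (alpha_a h hu huV hG ha.hD hUV huU
        (fun w hw hwQ => hinf _ (le_normalizer_o2 J) h1 w hw hwQ) hnp).elim
  set N := nu J Z with hN
  have hNn : J ≤ normalizer (N : Set G) := QAbs.norm_of fun c hc a ha => nu_conj hc ha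
  have hN'n : J ≤ normalizer ((⁅N, N⁆ : Subgroup G) : Set G) := comm_norm hNn
  have hZN' : ∀ z ∈ Z, z ∈ ⁅N, N⁆ → z = 1 := by
    rcases hall _ hN'n with h1 | h1
    · exact (not_le_comm h.pl.Zne (o2_isPGroup J) hZQ (le_normalizer_o2 J) h1).elim
    · exact h1
  have hLN : L ≤ N := (hVle N hNn le_nu).2
  have hgJ : g ∈ J := hxJ (mem_xs.2 ⟨hg, hgu⟩)
  obtain ⟨y, hy⟩ : ∃ y, y = g * q * g⁻¹ := ⟨_, rfl⟩
  rw [← hy] at hne
  have hqW : q ∈ ws V Z := h.line_le_ws hL hZL hq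
  have hY : Pnt V Z (PT.cj g Z) := h.self.conj (h.pl.XV_le_N hg)
  have hyW : y ∈ ws V (PT.cj g Z) := by rw [hy, ws_cj]; exact conj_mem_cj hqW
  have hgZ : PT.cj g Z ≠ Z := by
    intro e
    rw [e] at hyW
    exact hne (h.comm_W h.self.cj hqW hyW)
  obtain ⟨c, hc⟩ : ∃ c, c = q * y * q⁻¹ * y⁻¹ := ⟨_, rfl⟩
  have hc1 : c ≠ 1 := fun e => hne (comm_of_cm (hc.symm.trans e))
  have hcI : c ∈ IV V Z := by rw [hc]; exact h.comm_mem h.self hY hgZ.symm hqW hyW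
  have hcN : c ∈ ⁅N, N⁆ := by
    have := commutator_mem_commutator (hLN hq) (show y ∈ N by rw [hy]; exact nu_conj hgJ (hLN hq))
    rwa [commutatorElement_def, ← hc] at this
  have hcU : c ∈ U := hinf _ hN'n hZN' c (h.I_le_W h.self hcI) hcN
  -- the line `L^y`
  have hyV : y ∈ centralizer (V : Set G) := h.W_le_cent hY hyW
  have hyZ : PT.cj y Z = Z := cj_eq_iff.2 (centralizer_le_normalizer _ (centralizer_le h.pl.ZV hyV))
  have hL2 : IsCj V (PT.cj y L) := hL.cj y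
  have hZL2 : Z ≤ PT.cj y L := by rw [← hyZ]; exact cj_le_cj.2 hZL
  have hyq : y * q * y⁻¹ = c⁻¹ * q := by rw [hc]; group
  have hqZ : q ∉ Z := by
    intro hqZ
    exact hne (mem_centralizer_iff.1 (centralizer_le h.pl.ZV hyV) q hqZ)
  have hLI' : L ≤ IV L Z := h'.pl.V_le_IV
  have hL2' : IsCj L (PT.cj y L) := Alpha.isCj_line hL hL2
  have hcq : c⁻¹ * q ∈ PT.cj y L := by rw [← hyq]; exact conj_mem_cj hq
  have h1 : PT.cj y L ≤ IV L Z := by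
    refine line_le h' ha'.hD hL2' hZL2 hcq (fun e => hqZ ?_) ?_
    · rw [← hyq] at e
      have e1 : y⁻¹ * (y * q * y⁻¹) * y ∈ Z := by
        rw [← mem_cj, hyZ]; exact e
      have e2 : y⁻¹ * (y * q * y⁻¹) * y = q := by group
      rwa [e2] at e1
    · exact mul_mem (inv_mem (mem_ul.1 (hUL hcU)).1) (hLI' hq)
  by_cases e : PT.cj y L = L
  · have hcL : c ∈ L := by
      rw [e] at hcq
      exact (inv_mem_iff).1 ((L.mul_mem_cancel_right hq).1 hcq)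
    obtain ⟨p, hp, hpL, hcp⟩ := h.line_pt hL hcL hc1
    exact hnp L p hL hZL hp hpL (mem_pt h hu huV ha.hD hL hZL hp hpL (hUV hcU) hc1 hcp)
  · have hpl := h'.plg_of hL2' hZL2 e h1
    have hcQ : c ∈ L ⊔ PT.cj y L := by
      have e1 : c = q * (c⁻¹ * q)⁻¹ := by group
      rw [e1]
      exact mul_mem ((le_sup_left : L ≤ L ⊔ PT.cj y L) hq) ((le_sup_right : PT.cj y L ≤ L ⊔ PT.cj y L) (inv_mem hcq))
    obtain ⟨p, hp, hpQ, hcp⟩ := hpl.cov c hcQ hc1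
    have hpZ : Z ≠ p := by
      rintro rfl
      exact hc1 (ul_inf h hu huV (h.pl.ZV hcp) (hUV hcU))
    obtain ⟨N, hN, hNQ, hZN, hpN⟩ := hpl.col Z p h.pl.isCj_self hp (hZL.trans le_sup_left) hpQ hpZ
    have hN' := Alpha.isCj_line' hL hN
    exact hnp N p hN' hZN hp hpN (mem_pt h hu huV ha.hD hN' hZN hp hpN (hUV hcU) hc1 hcp)

end One

namespace Co

variable [Finite G] {F : Type*} [Field F] [CharP F 2] {S : Sylow 2 G} {B P V Z : Subgroup G} (h : Co F S B P V Z)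
include h

/-- **THEOREM ALPHA** -/
theorem alpha (hG : IsCharacteristicTwoType G) (ha : HA V Z) {L : Subgroup G} (hL : IsCj V L) (hZL : Z ≤ L)
    {u : G} (hu : u ∈ IV V Z) (hu' : u ∈ IV L Z) (huZ : u ∉ Z) {q g : G} (hq : q ∈ L) (hg : g ∈ XV V Z)
    (hgZ : PT.cj g Z ≠ Z) : q * (g * q * g⁻¹) * q⁻¹ * (g * q * g⁻¹)⁻¹ ∈ Z := by
  have hVV : IsCj V V := ⟨1, (cj_one V).symm⟩
  have hqW : q ∈ ws V Z := h.one.line_le_ws hL hZL hq
  by_cases huV : u ∈ V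
  · -- coplanar
    have hone := h.one
    obtain ⟨S', C', P', h'⟩ := hone.flag hL hone.pl.isCj_self hZL
    have ha' : HA L Z := ha.line hone hL hZL
    have key : q * (g * q * g⁻¹) = g * q * g⁻¹ * q := by
      by_cases hLV : L = V
      · subst hLV
        exact hone.pl.Vcomm hq (conj_mem (hone.pl.XV_le_N hg) hq)
      have hVL : IsCj L V := Alpha.isCj_line hL hVV
      have h1 : V ≤ IV L Z := line_le h' ha'.hD hVL hone.pl.ZV huV huZ hu'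
      have hLI := h'.coplanar hVL hone.pl.ZV (Ne.symm hLV) h1
      exact hone.pl.IV_comm (hLI hq) (conj_mem (normalizer_le_IV V Z (hone.pl.XV_le_N hg)) (hLI hq))
    have e : q * (g * q * g⁻¹) * q⁻¹ * (g * q * g⁻¹)⁻¹ = 1 := by rw [key]; group
    rw [e]; exact one_mem _
  -- `x = c g` centralises `u`
  obtain ⟨x, hx, hxg⟩ := Alpha.cover h.one hu huV hg
  have hy : x * g⁻¹ ∈ yl V Z := by
    rw [← h.XV_cent]
    exact ⟨(XV V Z).mul_mem (mem_xs.1 hx).1 ((XV V Z).inv_mem hg), hxg⟩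
  have h1 := h.one.alpha_core hG ha hL hZL hu hu' huZ hq (mem_xs.1 hx).1 (mem_xs.1 hx).2
  have hY : Pnt V Z (PT.cj g Z) := h.one.self.conj (h.one.pl.XV_le_N hg)
  obtain ⟨y, hye⟩ : ∃ y, y = g * q * g⁻¹ := ⟨_, rfl⟩
  have hyW : y ∈ ws V (PT.cj g Z) := by rw [hye, ws_cj]; exact conj_mem_cj hqW
  have hE := h.one.yl_ee hY hy hyW
  obtain ⟨d, hd⟩ : ∃ d, d = x * g⁻¹ * y * (x * g⁻¹)⁻¹ * y⁻¹ := ⟨_, rfl⟩
  rw [← hd] at hE
  have hxq : x * q * x⁻¹ = d * y := by rw [hd, hye]; group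
  rw [hxq] at h1
  rw [← hye]
  -- `[q, y] = d⁻¹ [q, d]..`
  have h2 := h.one.ee_act h.one.self hgZ.symm hE hqW
  obtain ⟨t, ht⟩ : ∃ t, t = d * q * d⁻¹ * q⁻¹ := ⟨_, rfl⟩
  rw [← ht] at h2
  have htd : d * t = t * d :=
    (mem_centralizer_iff.1 (h.one.W_le_cent hY (ee_le hE)) t (h.one.pl.ZV h2)).symm
  have e1 : d⁻¹ * q * d = t⁻¹ * q := by
    have e2 : q = d⁻¹ * (t * q) * d := by rw [ht]; group
    have e3 : d⁻¹ * t = t * d⁻¹ := by
      rw [inv_mul_eq_iff_eq_mul, ← mul_assoc, htd, mul_inv_cancel_right]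
    have e4 : q = t * (d⁻¹ * q * d) := by
      calc q = d⁻¹ * (t * q) * d := e2
        _ = (d⁻¹ * t) * q * d := by group
        _ = t * (d⁻¹ * q * d) := by rw [e3]; group
    rw [eq_inv_mul_iff_mul_eq]
    exact e4.symm
  have e2 : y * q = t⁻¹ * (q * y) := by
    calc y * q = d⁻¹ * (d * y * q) := by group
      _ = d⁻¹ * (q * (d * y)) := by rw [h1]
      _ = (d⁻¹ * q * d) * y := by group
      _ = t⁻¹ * (q * y) := by rw [e1]; group
  have e : q * y * q⁻¹ * y⁻¹ = t := by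
    calc q * y * q⁻¹ * y⁻¹ = q * y * (y * q)⁻¹ := by group
      _ = t := by rw [e2]; group
  rw [e]; exact h2

/-- **THEOREM ALPHA**, `L = V^c`, `c ∈ C_G(Z)` -/
theorem alpha_cj (hG : IsCharacteristicTwoType G) (ha : HA V Z) {c u v g : G} (hc : c ∈ centralizer (Z : Set G))
    (hu : u ∈ IV V Z) (hu' : u ∈ PT.cj c (IV V Z)) (huZ : u ∉ Z) (hv : v ∈ PT.cj c V) (hg : g ∈ XV V Z)
    (hgZ : PT.cj g Z ≠ Z) : v * (g * v * g⁻¹) * v⁻¹ * (g * v * g⁻¹)⁻¹ ∈ Z := by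
  have hcZ : PT.cj c Z = Z := cj_eq_iff.2 (centralizer_le_normalizer _ hc)
  refine h.alpha hG ha (L := PT.cj c V) ⟨c, rfl⟩ ?_ hu ?_ huZ hv hg hgZ
  · rw [← hcZ]; exact cj_le_cj.2 h.one.pl.ZV
  · have h1 := PB.Geom.IV_conj h.one.pl h.one.hf c
    rw [hcZ] at h1
    rw [h1]; exact hu'

end Co

end Cfsg.Agent.Omega.NO3S.OneQ

end

section


/-!
# NO-3S, critical distance 1: relations between two lines on a point (bb OMEGA #19808, #19910)

`L`, `M` are lines on the point `X`, `Y ≠ X` a point of `L`, `Q ≠ X` a point of `M`.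

* `One.star_comm` (1.1) : `e ∈ W_Q ∩ K_X` moving `Y`, `g ∈ K_X` moving `Q` and centralising all `D_T(L)`; then
  `[d, e] ∈ I_M` for `d ∈ D_Y(L)`;
* `One.star` (1.2) : then `D_X(L) ≤ I_L (D_X(L) ∩ I_M)`;
* **`One.n6`** (N6) : if `C_{W_X}(E_Y(L)) = E_X(L)`, `[Y, w] ≰ E_X(L)` for some `w ∈ W_Q`, and `Q ≰ E_X(L)`, then
  `D_X(L) ≤ I_L`;
* **`One.kappa`** : `w ∈ W_Y`, `e ∈ W_Q ∩ K_X` moving `Y`, `e` centralises `[Q, w]`; then `[w, w^e] ∈ I_L ∩ I_M`.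
-/

set_option autoImplicit false
set_option linter.unusedSectionVars false

namespace Cfsg.Agent.Omega.NO3S.OneQ

open Subgroup Cfsg.Agent.Omega.NO3S.PT Cfsg.Agent.Omega.NoFF.Basic
open scoped Pointwise

variable {G : Type*} [Group G]

namespace One

variable [Finite G] {S : Sylow 2 G} {B P V Z : Subgroup G} (h : One S B P V Z)
include h

/-- `W_X ∩ W_Y = I_L` -/
theorem IV_line {L X Y : Subgroup G} (hL : IsCj V L) (hX : IsCj Z X) (hXL : X ≤ L) (hY : IsCj Z Y) (hYL : Y ≤ L)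
    (hne : X ≠ Y) : ws V X ⊓ ws V Y = IV L Z := by
  obtain ⟨S', C', Q, h'⟩ := h.flag hL hX hXL
  have h1 := h'.pl.IV_eq h'.hf h'.self.cj hXL (h.pnt_line hX hY hYL).cj hYL hne
  rwa [ws_line hL, ws_line hL, IV_of hX] at h1

theorem I_le_dd_line {L X : Subgroup G} (hL : IsCj V L) (hX : IsCj Z X) (hXL : X ≤ L) : IV L Z ≤ dd L Z X := by
  obtain ⟨S', C', Q, h'⟩ := h.flag hL hX hXL
  rw [← IV_of hX, ← dd_of hX]
  exact h'.I_le_dd h'.self

/-- `K_X` normalises the lines on `X` -/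
theorem K_norm_line {L X : Subgroup G} (hL : IsCj V L) (hX : IsCj Z X) (hXL : X ≤ L) :
    kx V X ≤ normalizer (L : Set G) := by
  obtain ⟨S', C', Q, h'⟩ := h.flag hL hX hXL
  have h1 := h'.K_norm h'.self
  rwa [kx_line hL] at h1

/-- `K_X` normalises `I_L` -/
theorem K_norm_I {L X : Subgroup G} (hL : IsCj V L) (hX : IsCj Z X) (hXL : X ≤ L) :
    kx V X ≤ normalizer ((IV L Z : Subgroup G) : Set G) := (h.K_norm_line hL hX hXL).trans (normalizer_le_IV L Z)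

/-- `W_T` normalises `W_X` for `T, X` on a line -/
theorem W_norm_line {L X T : Subgroup G} (hL : IsCj V L) (hXL : X ≤ L) (hT : IsCj Z T) (hTL : T ≤ L) :
    ws V T ≤ normalizer ((ws V X : Subgroup G) : Set G) := by
  refine (h.ws_le_line hL hT hTL).trans ?_
  exact ((centralizer_le (show (X : Set G) ⊆ L from hXL)).trans (centralizer_le_normalizer _)).trans (normalizer_le_ws V X)

/-- `D_T(L)` centralises all `W_R`, `R` a point of `L` -/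
theorem dd_cent_line {L T R : Subgroup G} (hL : IsCj V L) (hT : IsCj Z T) (hTL : T ≤ L) (hR : IsCj Z R) (hRL : R ≤ L)
    {d w : G} (hd : d ∈ dd L Z T) (hw : w ∈ ws V R) : w * d = d * w := by
  by_cases hRT : R = T
  · subst hRT
    have h1 : d ∈ ws V R := by
      have := hd.1
      rwa [ws_line hL] at this
    exact h.comm_W hR hw h1
  · rw [h.dd_line hL hT hTL hR hRL hRT] at hd
    exact mem_centralizer_iff.1 hd.2 w hw

/-- `C(g) ∩ W_Q ≤ I_M`, `g ∈ K_X` moving `Q` -/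
theorem mem_I_of_comm {M X Q : Subgroup G} (hM : IsCj V M) (hX : IsCj Z X) (hXM : X ≤ M) (hQ : IsCj Z Q) (hQM : Q ≤ M)
    {g c : G} (hg : g ∈ kx V X) (hgQ : PT.cj g Q ≠ Q) (hc : c ∈ ws V Q) (hgc : g * c = c * g) : c ∈ IV M Z := by
  have h1 : PT.cj g M = M := cj_eq_iff.2 (h.K_norm_line hM hX hXM hg)
  have h2 : PT.cj g Q ≤ M := by
    have := cj_le_cj (g := g) |>.2 hQM
    rwa [h1] at this
  rw [← h.IV_line hM hQ hQM (hQ.cj g) h2 (Ne.symm hgQ)]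
  refine ⟨hc, ?_⟩
  rw [ws_cj]
  have h3 := conj_mem_cj (g := g) hc
  rwa [hgc, mul_inv_cancel_right] at h3

section two

variable {L M X Y Q : Subgroup G} (hL : IsCj V L) (hM : IsCj V M) (hX : IsCj Z X) (hXL : X ≤ L) (hXM : X ≤ M)
  (hY : IsCj Z Y) (hYL : Y ≤ L) (hYX : Y ≠ X) (hQ : IsCj Z Q) (hQM : Q ≤ M) (hQX : Q ≠ X)
include hL hM hX hXL hXM hY hYL hYX hQ hQM hQX

/-- `[D_Y(L), W_Q] ≤ D_Q(M)` -/
theorem dd_W {d e : G} (hd : d ∈ dd L Z Y) (he : e ∈ ws V Q) : d * e * d⁻¹ * e⁻¹ ∈ dd M Z Q := by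
  -- `d` centralises `W_X`
  have hdX : d ∈ centralizer ((ws V X : Subgroup G) : Set G) := by
    rw [h.dd_line hL hY hYL hX hXL (Ne.symm hYX)] at hd
    exact hd.2
  have hML : M ≤ ws V X := h.line_le_ws hM hXM
  have hdQ : d ∈ normalizer ((ws V Q : Subgroup G) : Set G) := by
    refine normalizer_le_ws V Q (centralizer_le_normalizer _ ?_)
    exact centralizer_le (hQM.trans hML) hdX
  have heX : e ∈ normalizer ((ws V X : Subgroup G) : Set G) := h.W_norm_line hM hXM hQ hQM he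
  rw [h.dd_line hM hQ hQM hX hXM (Ne.symm hQX)]
  constructor
  · exact (ws V Q).mul_mem ((mem_normalizer_iff.1 hdQ e).1 he) ((ws V Q).inv_mem he)
  · have h1 : e * d⁻¹ * e⁻¹ ∈ centralizer ((ws V X : Subgroup G) : Set G) := by
      have h2 := conj_mem_cj (g := e) (inv_mem hdX)
      rwa [cj_centralizer, cj_eq_iff.2 heX] at h2
    have e1 : d * e * d⁻¹ * e⁻¹ = d * (e * d⁻¹ * e⁻¹) := by group
    rw [e1]
    exact mul_mem hdX h1

/-- `D_Y(L)^e = D_{Y^e}(L)` -/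
theorem dd_conj {e d : G} (heX : e ∈ kx V X) (hd : d ∈ dd L Z Y) : e * d * e⁻¹ ∈ dd L Z (PT.cj e Y) := by
  have h1 := conj_mem_cj (g := e) hd
  rwa [cj_conj_dd, cj_eq_iff.2 (h.K_norm_line hL hX hXL heX)] at h1

theorem cj_le_line {e : G} (heX : e ∈ kx V X) : PT.cj e Y ≤ L := by
  have := cj_le_cj (g := e) |>.2 hYL
  rwa [cj_eq_iff.2 (h.K_norm_line hL hX hXL heX)] at this

/-- (1.1) `[D_Y(L), e] ≤ I_M` -/
theorem star_comm {e g d : G} (he : e ∈ ws V Q) (heX : e ∈ kx V X) (hg : g ∈ kx V X) (hgQ : PT.cj g Q ≠ Q)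
    (hgD : ∀ T, IsCj Z T → T ≤ L → ∀ d ∈ dd L Z T, g * d = d * g) (hd : d ∈ dd L Z Y) :
    d * e * d⁻¹ * e⁻¹ ∈ IV M Z := by
  have h1 := h.dd_W hL hM hX hXL hXM hY hYL hYX hQ hQM hQX hd he
  have h2 : d * e * d⁻¹ * e⁻¹ ∈ ws V Q := by
    rw [← ws_line hM]
    exact dd_le h1
  refine h.mem_I_of_comm hM hX hXM hQ hQM hg hgQ h2 ?_
  have h3 : g * d = d * g := hgD Y hY hYL d hd
  have h4 : g * (e * d⁻¹ * e⁻¹) = (e * d⁻¹ * e⁻¹) * g :=
    hgD _ (hY.cj e) (h.cj_le_line hL hM hX hXL hXM hY hYL hYX hQ hQM hQX heX) _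
      (h.dd_conj hL hM hX hXL hXM hY hYL hYX hQ hQM hQX heX (inv_mem hd))
  have e1 : d * e * d⁻¹ * e⁻¹ = d * (e * d⁻¹ * e⁻¹) := by group
  rw [e1]
  calc g * (d * (e * d⁻¹ * e⁻¹)) = (g * d) * (e * d⁻¹ * e⁻¹) := by group
    _ = d * (g * (e * d⁻¹ * e⁻¹)) := by rw [h3]; group
    _ = d * (e * d⁻¹ * e⁻¹) * g := by rw [h4]; group

/-- `[D_Y(L), e]` centralises all `W_T`, `T` a point of `L` -/
theorem star_cent {e d w : G} {T : Subgroup G} (heX : e ∈ kx V X) (hd : d ∈ dd L Z Y) (hT : IsCj Z T)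
    (hTL : T ≤ L) (hw : w ∈ ws V T) : w * (d * e * d⁻¹ * e⁻¹) = d * e * d⁻¹ * e⁻¹ * w := by
  have h3 : w * d = d * w := h.dd_cent_line hL hY hYL hT hTL hd hw
  have h4 : w * (e * d⁻¹ * e⁻¹) = (e * d⁻¹ * e⁻¹) * w :=
    h.dd_cent_line hL (hY.cj e) (h.cj_le_line hL hM hX hXL hXM hY hYL hYX hQ hQM hQX heX) hT hTL
      (h.dd_conj hL hM hX hXL hXM hY hYL hYX hQ hQM hQX heX (inv_mem hd)) hw
  have e1 : d * e * d⁻¹ * e⁻¹ = d * (e * d⁻¹ * e⁻¹) := by group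
  rw [e1]
  calc w * (d * (e * d⁻¹ * e⁻¹)) = (w * d) * (e * d⁻¹ * e⁻¹) := by group
    _ = d * (w * (e * d⁻¹ * e⁻¹)) := by rw [h3]; group
    _ = d * (e * d⁻¹ * e⁻¹) * w := by rw [h4]; group

omit hM hXM hQ hQM hQX in
theorem relIndex_I : (IV L Z).relIndex (dd L Z Y) = (IV L Z).relIndex (dd L Z X) := by
  obtain ⟨S', C', R, h'⟩ := h.flag hL hX hXL
  obtain ⟨k, hk, -, hk1, hk2⟩ := h'.pl.swap h'.hf h'.self.cj hXL (h.pnt_line hX hY hYL).cj hYL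
  have hkN := h'.pl.XV_le_N hk
  have h1 : PT.cj k L = L := cj_eq_iff.2 hkN
  have h2 : PT.cj k (IV L Z) = IV L Z := cj_eq_iff.2 (normalizer_le_IV L Z hkN)
  have h3 : PT.cj k (dd L Z X) = dd L Z Y := by rw [cj_conj_dd, h1, hk1]
  rw [← h3]
  nth_rewrite 1 [← h2]
  exact relIndex_pointwise_smul _ _ _

/-- **(1.2)** `D_X(L) ≤ I_L (D_X(L) ∩ I_M)` -/
theorem star {e g : G} (he : e ∈ ws V Q) (heX : e ∈ kx V X) (heY : PT.cj e Y ≠ Y) (hg : g ∈ kx V X)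
    (hgQ : PT.cj g Q ≠ Q) (hgD : ∀ T, IsCj Z T → T ≤ L → ∀ d ∈ dd L Z T, g * d = d * g) {c : G}
    (hc : c ∈ dd L Z X) : ∃ i ∈ IV L Z, ∃ j ∈ IV M Z, c = i * j := by
  have hIX : IV L Z ≤ dd L Z X := h.I_le_dd_line hL hX hXL
  have hDW : dd L Z X ≤ ws V X := by
    have : dd L Z X ≤ ws L X := dd_le
    rwa [ws_line hL] at this
  have hmem : ∀ d ∈ dd L Z Y, d * e * d⁻¹ * e⁻¹ ∈ dd L Z X := by
    intro d hd
    have h1 := h.star_comm hL hM hX hXL hXM hY hYL hYX hQ hQM hQX he heX hg hgQ hgD hd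
    rw [h.dd_line hL hX hXL hY hYL hYX]
    refine ⟨?_, mem_centralizer_iff.2 fun w hw => ?_⟩
    · rw [← h.IV_line hM hX hXM hQ hQM (Ne.symm hQX)] at h1
      exact h1.1
    · exact h.star_cent hL hM hX hXL hXM hY hYL hYX hQ hQM hQX heX hd hY hYL hw
  let f : dd L Z Y →* dd L Z X :=
    { toFun := fun d => ⟨d * e * (d : G)⁻¹ * e⁻¹, hmem d d.2⟩
      map_one' := Subtype.ext (by simp only [_root_.OneMemClass.coe_one, _root_.one_mul, _root_.inv_one, _root_.mul_one, _root_.mul_inv_cancel])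
      map_mul' := by
        intro a b
        apply Subtype.ext
        show (a : G) * b * e * ((a : G) * b)⁻¹ * e⁻¹ = (a * e * (a : G)⁻¹ * e⁻¹) * (b * e * (b : G)⁻¹ * e⁻¹)
        have h1 := hmem b b.2
        have h2 := hmem a a.2
        -- `a` commutes with `[b, e] ∈ W_X`
        have h3 : ((b : G) * e * (b : G)⁻¹ * e⁻¹) * a = a * ((b : G) * e * (b : G)⁻¹ * e⁻¹) :=
          h.dd_cent_line hL hY hYL hX hXL a.2 (hDW h1)
        have h4 := h.comm_W hX (hDW h1) (hDW h2)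
        rw [← h4]
        calc (a : G) * b * e * ((a : G) * b)⁻¹ * e⁻¹ =
            (a * ((b : G) * e * (b : G)⁻¹ * e⁻¹)) * e * (a : G)⁻¹ * e⁻¹ := by group
          _ = ((b : G) * e * (b : G)⁻¹ * e⁻¹) * (a * e * (a : G)⁻¹ * e⁻¹) := by rw [← h3]; group }
  have hn : ((IV L Z).subgroupOf (dd L Z X)).Normal := by
    refine ⟨fun a ha b => ?_⟩
    rw [mem_subgroupOf] at ha ⊢
    have h1 := h.comm_W hX (hDW b.2) (hDW a.2)
    show (b : G) * a * (b : G)⁻¹ ∈ IV L Z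
    rw [h1, mul_inv_cancel_right]
    exact ha
  set J := (IV L Z).subgroupOf (dd L Z X) with hJ
  let F : dd L Z Y →* dd L Z X ⧸ J := (QuotientGroup.mk' J).comp f
  have hker : F.ker ≤ (IV L Z).subgroupOf (dd L Z Y) := by
    intro d hd
    rw [MonoidHom.mem_ker] at hd
    have h1 : f d ∈ J := (QuotientGroup.eq_one_iff _).1 hd
    rw [hJ, mem_subgroupOf] at h1
    have h1' : (d : G) * e * (d : G)⁻¹ * e⁻¹ ∈ IV L Z := h1
    rw [mem_subgroupOf]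
    -- `e d⁻¹ e⁻¹ ∈ W_Y`
    have hdW : (d : G) ∈ ws V Y := by
      rw [← ws_line hL]
      exact dd_le d.2
    have hI := h.IV_line hL hY hYL (hY.cj e) (h.cj_le_line hL hM hX hXL hXM hY hYL hYX hQ hQM hQX heX) (Ne.symm heY)
    have h2 : e * (d : G)⁻¹ * e⁻¹ ∈ IV L Z := by
      rw [← hI]
      constructor
      · have e1 : e * (d : G)⁻¹ * e⁻¹ = (d : G)⁻¹ * ((d : G) * e * (d : G)⁻¹ * e⁻¹) := by group
        rw [e1]
        refine (ws V Y).mul_mem ((ws V Y).inv_mem hdW) ?_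
        rw [← hI] at h1'
        exact h1'.1
      · rw [ws_cj]
        exact conj_mem_cj ((ws V Y).inv_mem hdW)
    have h3 := (mem_normalizer_iff.1 (h.K_norm_I hL hX hXL heX) _).2 h2
    exact (inv_mem_iff).1 h3
  have hF : F.range = ⊤ := by
    apply Subgroup.eq_top_of_le_card
    rw [← index_ker]
    refine le_trans ?_ (Nat.le_of_dvd (Nat.pos_of_ne_zero FiniteIndex.index_ne_zero) (index_dvd_of_le hker))
    change Nat.card (dd L Z X ⧸ J) ≤ (IV L Z).relIndex (dd L Z Y)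
    rw [h.relIndex_I hL hX hXL hY hYL hYX]
    exact le_rfl
  have h1 : QuotientGroup.mk' J ⟨c, hc⟩ ∈ F.range := by rw [hF]; exact mem_top _
  obtain ⟨d, hd⟩ := h1
  have h2 : (f d)⁻¹ * ⟨c, hc⟩ ∈ J := QuotientGroup.eq.1 hd
  rw [hJ, mem_subgroupOf] at h2
  refine ⟨_, h2, _, h.star_comm hL hM hX hXL hXM hY hYL hYX hQ hQM hQX he heX hg hgQ hgD d.2, ?_⟩
  show c = ((f d : G))⁻¹ * c * (f d : G)
  have h3 := h.comm_W hX (hDW hc) (hDW (f d).2)
  rw [mul_assoc, h3, inv_mul_cancel_left]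

end two

/-- `C_{W_X}(E_Y) = E_X` for all flags -/
theorem w1_mem (hN : w1 V Z Z ≤ ee V Z Z) {L X Y : Subgroup G} (hL : IsCj V L) (hX : IsCj Z X) (hXL : X ≤ L)
    (hY : IsCj Z Y) (hYL : Y ≤ L) (hne : Y ≠ X) {u : G} (hu : u ∈ ws V X)
    (hue : ∀ e ∈ ee L Z Y, e * u = u * e) : u ∈ ee L Z X := by
  obtain ⟨g, rfl, rfl⟩ := PB.Geom.exists_conj_flag h.pl hX hL hXL
  have hY' : Pnt V Z (PT.cj g⁻¹ Y) := ⟨hY.cj g⁻¹, by rw [cj_le_iff, inv_inv]; exact hYL⟩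
  have hYne : PT.cj g⁻¹ Y ≠ Z := fun e => hne (by rw [← e, cj_cj, mul_inv_cancel, cj_one])
  rw [← cj_conj_ee, mem_cj]
  apply hN
  rw [h.w1_eq h.self hY' hYne]
  refine ⟨?_, mem_centralizer_iff.2 fun e he => ?_⟩
  · show g⁻¹ * u * g ∈ ws V Z
    rw [← mem_cj, ← ws_cj]; exact hu
  · have h1 : g * e * g⁻¹ ∈ ee (PT.cj g V) Z Y := by
      have h2 := conj_mem_cj (g := g) he
      rwa [cj_conj_ee, cj_cj, mul_inv_cancel, cj_one] at h2
    have h3 := hue _ h1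
    calc e * (g⁻¹ * u * g) = g⁻¹ * ((g * e * g⁻¹) * u) * g := by group
      _ = g⁻¹ * u * g * e := by rw [h3]; group

section two

variable {L M X Y Q : Subgroup G} (hL : IsCj V L) (hM : IsCj V M) (hX : IsCj Z X) (hXL : X ≤ L) (hXM : X ≤ M)
  (hY : IsCj Z Y) (hYL : Y ≤ L) (hYX : Y ≠ X) (hQ : IsCj Z Q) (hQM : Q ≤ M) (hQX : Q ≠ X)
include hL hM hX hXL hXM hY hYL hYX hQ hQM hQX

/-- `[W_Q, K_X] ≤ K_X` -/
theorem comm_mem_K {w e : G} (hw : w ∈ ws V Q) (he : e ∈ kx V X) : w * e * w⁻¹ * e⁻¹ ∈ kx V X := by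
  have h1 : w ∈ normalizer ((kx V X : Subgroup G) : Set G) :=
    normalizer_le_kx V X (centralizer_le_normalizer _ (centralizer_le hXM (h.ws_le_line hM hQ hQM hw)))
  exact (kx V X).mul_mem ((mem_normalizer_iff.1 h1 e).1 he) ((kx V X).inv_mem he)

/-- **(N6)** -/
theorem n6 (hN : w1 V Z Z ≤ ee V Z Z) {w y q : G} (hw : w ∈ ws V Q) (hy : y ∈ Y)
    (hwy : w * y * w⁻¹ * y⁻¹ ∉ ee L Z X) (hq : q ∈ Q) (hqE : q ∉ ee L Z X) : dd L Z X ≤ IV L Z := by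
  have hyW : y ∈ ws V Y := h.line_le_ws hL hYL (hYL hy)
  have hyX : y ∈ ws V X := h.line_le_ws hL hXL (hYL hy)
  have hqX : q ∈ ws V X := h.line_le_ws hM hXM (hQM hq)
  have hwX : w ∈ normalizer ((ws V X : Subgroup G) : Set G) := h.W_norm_line hM hXM hQ hQM hw
  have hwyX : w * y * w⁻¹ ∈ ws V X := (mem_normalizer_iff.1 hwX y).1 hyX
  have hcX : w * y * w⁻¹ * y⁻¹ ∈ ws V X := (ws V X).mul_mem hwyX ((ws V X).inv_mem hyX)
  have hwi : w⁻¹ = w := h.W_inv hQ hw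
  -- the element `e`
  obtain ⟨e, heE, hec, heq⟩ : ∃ e ∈ ee L Z Y, e * (w * y * w⁻¹ * y⁻¹) ≠ (w * y * w⁻¹ * y⁻¹) * e ∧ e * q ≠ q * e := by
    obtain ⟨e1, he1, hc1⟩ : ∃ e ∈ ee L Z Y, e * (w * y * w⁻¹ * y⁻¹) ≠ (w * y * w⁻¹ * y⁻¹) * e := by
      by_contra hcon
      push Not at hcon
      exact hwy (h.w1_mem hN hL hX hXL hY hYL hYX hcX hcon)
    obtain ⟨e2, he2, hq2⟩ : ∃ e ∈ ee L Z Y, e * q ≠ q * e := by
      by_contra hcon
      push Not at hcon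
      exact hqE (h.w1_mem hN hL hX hXL hY hYL hYX hqX hcon)
    by_cases hq1 : e1 * q = q * e1
    · by_cases hc2 : e2 * (w * y * w⁻¹ * y⁻¹) = (w * y * w⁻¹ * y⁻¹) * e2
      · refine ⟨e1 * e2, mul_mem he1 he2, fun hcon => hc1 ?_, fun hcon => hq2 ?_⟩
        · have h1 : e1 = (e1 * e2) * e2⁻¹ := by group
          have h2 : e2⁻¹ * (w * y * w⁻¹ * y⁻¹) = (w * y * w⁻¹ * y⁻¹) * e2⁻¹ := by
            rw [inv_mul_eq_iff_eq_mul, ← mul_assoc, hc2, mul_inv_cancel_right]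
          rw [h1, mul_assoc, h2, ← mul_assoc, hcon, mul_assoc]
        · have h1 : e2 = e1⁻¹ * (e1 * e2) := by group
          have h2 : e1⁻¹ * q = q * e1⁻¹ := by
            rw [inv_mul_eq_iff_eq_mul, ← mul_assoc, hq1, mul_inv_cancel_right]
          rw [h1, mul_assoc, hcon, ← mul_assoc, h2, mul_assoc]
      · exact ⟨e2, he2, hc2, hq2⟩
    · exact ⟨e1, he1, hc1, hq1⟩
  have heY : e ∈ ws V Y := by
    rw [← ws_line hL]
    exact ee_le heE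
  have heX : e ∈ kx V X := by
    rw [h.ee_line hL hY hYL hX hXL (Ne.symm hYX)] at heE
    exact heE.2
  have hey : e * y = y * e := h.comm_W hY heY hyW
  set g := w * e * w⁻¹ * e⁻¹ with hgdef
  have hgX : g ∈ kx V X := h.comm_mem_K hL hM hX hXL hXM hY hYL hYX hQ hQM hQX hw heX
  have heQM : PT.cj e Q ≤ M := by
    have := cj_le_cj (g := e) |>.2 hQM
    rwa [cj_eq_iff.2 (h.K_norm_line hM hX hXM heX)] at this
  -- `g` centralises `D_T(M)`
  have hgD : ∀ T, IsCj Z T → T ≤ M → ∀ d ∈ dd M Z T, g * d = d * g := by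
    intro T hT hTM d hd
    have h1 : w * d = d * w := h.dd_cent_line hM hT hTM hQ hQM hd hw
    have h2 : (e * w⁻¹ * e⁻¹) * d = d * (e * w⁻¹ * e⁻¹) := by
      refine h.dd_cent_line hM hT hTM (hQ.cj e) heQM hd ?_
      rw [ws_cj]
      exact conj_mem_cj ((ws V Q).inv_mem hw)
    have e1 : g = w * (e * w⁻¹ * e⁻¹) := by rw [hgdef]; group
    rw [e1, mul_assoc, h2, ← mul_assoc, h1, mul_assoc]
  have hgY : PT.cj g Y ≠ Y := by
    intro hcon
    have h1 : g * y * g⁻¹ * y⁻¹ ∈ Y := Y.mul_mem ((mem_normalizer_iff.1 (cj_eq_iff.1 hcon) y).1 hy) (Y.inv_mem hy)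
    have h2 : g * y * g⁻¹ * y⁻¹ ∈ X := (mem_kx.1 hgX).2 y hyX
    have h3 : g * y * g⁻¹ * y⁻¹ ∈ Y ⊓ X := ⟨h1, h2⟩
    rw [h.pl.pts_inf hY hX hYX, mem_bot, mul_inv_eq_one, mul_inv_eq_iff_eq_mul] at h3
    apply hec
    -- `e` commutes with `w⁻¹ y w = w y w⁻¹`
    have h4 : e * (w⁻¹ * y * w) = (w⁻¹ * y * w) * e := by
      have h5 : w * e * w⁻¹ * (e⁻¹ * y * e) * w * e⁻¹ * w⁻¹ = y := by
        calc w * e * w⁻¹ * (e⁻¹ * y * e) * w * e⁻¹ * w⁻¹ = (g * y) * g⁻¹ := by rw [hgdef]; group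
          _ = y := by rw [h3, mul_inv_cancel_right]
      have h6 : e⁻¹ * y * e = y := by rw [mul_assoc, ← hey, inv_mul_cancel_left]
      rw [h6] at h5
      have h7 : e * (w⁻¹ * y * w) * e⁻¹ = w⁻¹ * y * w := by
        calc e * (w⁻¹ * y * w) * e⁻¹ = w⁻¹ * (w * e * w⁻¹ * y * w * e⁻¹ * w⁻¹) * w := by group
          _ = _ := by rw [h5]
      rwa [mul_inv_eq_iff_eq_mul] at h7
    rw [hwi] at h4 ⊢
    have h5 : e * y⁻¹ = y⁻¹ * e := by
      rw [eq_inv_mul_iff_mul_eq, ← mul_assoc, ← hey, mul_inv_cancel_right]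
    rw [← mul_assoc, h4, mul_assoc, h5, ← mul_assoc]
  -- `[d⁻¹, w]`
  have key : dd L Z Y ≤ IV L Z := by
    intro d hd
    have hdW : d ∈ ws V Y := by
      rw [← ws_line hL]
      exact dd_le hd
    have hdi : d⁻¹ = d := h.W_inv hY hdW
    set δ := d * w * d⁻¹ * w⁻¹ with hδ
    have hδD : δ ∈ dd M Z Q := h.dd_W hL hM hX hXL hXM hY hYL hYX hQ hQM hQX hd hw
    have hι := h.star_comm hM hL hX hXM hXL hQ hQM hQX hY hYL hYX heY heX hgX hgY hgD (inv_mem hδD)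
    rw [inv_inv] at hι
    set ι := δ⁻¹ * e * δ * e⁻¹ with hιdef
    have hwι : w * ι = ι * w := by
      have h1 := h.star_cent hM hL hX hXM hXL hQ hQM hQX hY hYL hYX heX (inv_mem hδD) hQ hQM hw
      rwa [inv_inv] at h1
    have h1 : w⁻¹ * d * w = d * δ := by
      rw [hδ]
      have : w⁻¹ * d * w = d * (d⁻¹ * w⁻¹ * d * w) := by group
      rw [this, hdi, hwi]
    have hed : e⁻¹ * d * e = d := by
      have := h.comm_W hY heY hdW
      rw [mul_assoc, ← this, inv_mul_cancel_left]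
    have hed' : e * d * e⁻¹ = d := by rw [h.comm_W hY heY hdW, mul_inv_cancel_right]
    have h2 : g * d * g⁻¹ = d * ι := by
      calc g * d * g⁻¹ = w * e * (w⁻¹ * (e⁻¹ * d * e) * w) * e⁻¹ * w⁻¹ := by rw [hgdef]; group
        _ = w * (e * (d * δ) * e⁻¹) * w⁻¹ := by rw [hed, h1]; group
        _ = w * ((e * d * e⁻¹) * (e * δ * e⁻¹)) * w⁻¹ := by group
        _ = w * (d * δ * ι) * w⁻¹ := by rw [hed', hιdef]; group
        _ = w * (w⁻¹ * d * w) * (ι * w⁻¹) := by rw [h1]; group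
        _ = d * (w * ι) * w⁻¹ := by group
        _ = d * ι := by rw [hwι]; group
    have hgYL : PT.cj g Y ≤ L := h.cj_le_line hL hM hX hXL hXM hY hYL hYX hQ hQM hQX hgX
    have hI := h.IV_line hL hY hYL (hY.cj g) hgYL (Ne.symm hgY)
    have h3 : g * d * g⁻¹ ∈ IV L Z := by
      rw [← hI]
      constructor
      · rw [h2]
        refine (ws V Y).mul_mem hdW ?_
        rw [← hI] at hι
        exact hι.1
      · rw [ws_cj]
        exact conj_mem_cj hdW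
    exact (mem_normalizer_iff.1 (h.K_norm_I hL hX hXL hgX) d).2 h3
  have h1 : (IV L Z).relIndex (dd L Z X) = 1 := by
    rw [← h.relIndex_I hL hX hXL hY hYL hYX]
    exact relIndex_eq_one.2 key
  exact relIndex_eq_one.1 h1

/-- **KAPPA** -/
theorem kappa {w e : G} (hw : w ∈ ws V Y) (he : e ∈ ws V Q) (heX : e ∈ kx V X) (heY : PT.cj e Y ≠ Y)
    (hc : ∀ q ∈ Q, e * (w * q * w⁻¹) = (w * q * w⁻¹) * e) :
    w * (e * w * e⁻¹) * w⁻¹ * (e * w * e⁻¹)⁻¹ ∈ IV L Z ∧ w * (e * w * e⁻¹) * w⁻¹ * (e * w * e⁻¹)⁻¹ ∈ IV M Z ∧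
      w * (e * w * e⁻¹) * w⁻¹ * (e * w * e⁻¹)⁻¹ ∈ ws V (PT.cj w Q) := by
  have hwi : w⁻¹ = w := h.W_inv hY hw
  have hei : e⁻¹ = e := h.W_inv hQ he
  have hYL' : PT.cj e Y ≤ L := h.cj_le_line hL hM hX hXL hXM hY hYL hYX hQ hQM hQX heX
  set u := w * (e * w * e⁻¹) * w⁻¹ * (e * w * e⁻¹)⁻¹ with hu
  have h1 : u ∈ IV L Z := by
    rw [← h.IV_line hL hY hYL (hY.cj e) hYL' (Ne.symm heY)]
    have ha : e * w * e⁻¹ ∈ ws V (PT.cj e Y) := by rw [ws_cj]; exact conj_mem_cj hw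
    have hn1 : w ∈ normalizer ((ws V (PT.cj e Y) : Subgroup G) : Set G) := h.W_norm_line hL hYL' hY hYL hw
    have hn2 : e * w * e⁻¹ ∈ normalizer ((ws V Y : Subgroup G) : Set G) := h.W_norm_line hL hYL (hY.cj e) hYL' ha
    constructor
    · have e1 : u = w * ((e * w * e⁻¹) * w⁻¹ * (e * w * e⁻¹)⁻¹) := by rw [hu]; group
      rw [e1]
      exact (ws V Y).mul_mem hw ((mem_normalizer_iff.1 hn2 _).1 ((ws V Y).inv_mem hw))
    · exact (ws V _).mul_mem ((mem_normalizer_iff.1 hn1 _).1 ha) ((ws V _).inv_mem ha)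
  -- `u = [w e w⁻¹, e]`
  have h2 : u = (w * e * w⁻¹) * e * (w * e * w⁻¹)⁻¹ * e⁻¹ := by
    calc u = w * e * w * e⁻¹ * w⁻¹ * e * w⁻¹ * e⁻¹ := by rw [hu]; group
      _ = w * e * w⁻¹ * e * w * e⁻¹ * w⁻¹ * e⁻¹ := by rw [hei, hwi]
      _ = _ := by group
  have h3 : u ∈ ws V (PT.cj w Q) := by
    have hn : e ∈ normalizer ((ws V (PT.cj w Q) : Subgroup G) : Set G) := by
      refine normalizer_le_ws V _ (centralizer_le_normalizer _ ?_)
      rw [mem_centralizer_iff]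
      intro q hq
      rw [SetLike.mem_coe, mem_cj] at hq
      have h4 := hc _ hq
      have e1 : w * (w⁻¹ * q * w) * w⁻¹ = q := by group
      rw [e1] at h4
      exact h4.symm
    have ha : w * e * w⁻¹ ∈ ws V (PT.cj w Q) := by rw [ws_cj]; exact conj_mem_cj he
    have e1 : u = (w * e * w⁻¹) * (e * (w * e * w⁻¹)⁻¹ * e⁻¹) := by rw [h2]; group
    rw [e1]
    exact (ws V _).mul_mem ha ((mem_normalizer_iff.1 hn _).1 ((ws V _).inv_mem ha))
  have h4 : u ∈ ws V Q := by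
    have hn : w * e * w⁻¹ ∈ normalizer ((ws V Q : Subgroup G) : Set G) := by
      refine normalizer_le_ws V _ (centralizer_le_normalizer _ ?_)
      rw [mem_centralizer_iff]
      intro q hq
      have h5 := hc q hq
      have h6 : e * (w⁻¹ * q * w) = (w⁻¹ * q * w) * e := by rw [hwi] at h5 ⊢; exact h5
      calc q * (w * e * w⁻¹) = w * ((w⁻¹ * q * w) * e) * w⁻¹ := by group
        _ = w * e * w⁻¹ * q := by rw [← h6]; group
    rw [h2]
    exact (ws V _).mul_mem ((mem_normalizer_iff.1 hn _).1 he) ((ws V _).inv_mem he)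
  refine ⟨h1, ?_, h3⟩
  rw [← h.IV_line hM hX hXM hQ hQM (Ne.symm hQX)]
  refine ⟨?_, h4⟩
  rw [← h.IV_line hL hX hXL hY hYL (Ne.symm hYX)] at h1
  exact h1.1

end two

end One

end Cfsg.Agent.Omega.NO3S.OneQ

end
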